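import Cfsg.Agent.H1.Gross.RadicalStep

/-!
The configuration behind Gross's theorem: an `s`-group `A` acts on a `q`-group `R`, which acts on a module;
a fixed-point-free `σ` of order dividing `2 ^ (n + 1)` acts on everything. Then `σ ^ (2 ^ n)` is trivial on
the image of `A`.
-/

set_option autoImplicit false
set_option linter.style.haveILetI false

namespace H1.Gross

open Module Subgroup
open H28 (FPF)
open H1.Shult

universe u v w

variable {K : Type v} [Field K] [IsAlgClosed K] {V : Type w} [AddCommGroup V] [Module K V]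
  [FiniteDimensional K V]

/-- The configuration with faithful actions. -/
theorem config_aux {s q n : ℕ} [hsf : Fact s.Prime] [hqf : Fact q.Prime] (hs2 : s ≠ 2) (hq2 : q ≠ 2)
    (hsq : s ≠ q) (hK2 : (2 : K) ≠ 0) (hqK : (q : K) ≠ 0) (S : Module.End K V)
    (hS : S ^ (2 ^ (n + 1)) = 1) (hsum : ∀ v, ∑ i ∈ Finset.range (2 ^ (n + 1)), (S ^ i) v = 0) :
    ∀ (c : ℕ) {A : Type u} [Group A] [Finite A] {R : Type u} [Group R] [Finite R],
      Nat.card A + Nat.card R = c → IsPGroup s A → IsPGroup q R → ∀ (σA : MulAut A) (σR : MulAut R),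
      σA ^ (2 ^ (n + 1)) = 1 → σR ^ (2 ^ (n + 1)) = 1 → FPF σA → FPF σR → ∀ φ : A →* MulAut R,
      (∀ a r, σR (φ a r) = φ (σA a) (σR r)) → ∀ ρ : R →* Module.End K V, Function.Injective ρ →
      (∀ r, S * ρ r = ρ (σR r) * S) → ∀ a r, φ ((σA ^ (2 ^ n)) a) r = φ a r := by
  intro c
  induction c using Nat.strong_induction_on with
  | _ c ih =>
  intro A _ _ R _ _ hc hA hR σA σR hσA hσR hfA hfR φ hcompA ρ hρ hcomp
  classical
  set τA := σA ^ (2 ^ n) with hτA
  -- the kernel of the action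
  by_cases hker : φ.ker = ⊥
  swap
  · have hkσ : ∀ a ∈ φ.ker, σA a ∈ φ.ker := by
      intro a ha
      rw [MonoidHom.mem_ker] at ha ⊢
      refine MulEquiv.ext fun r => ?_
      obtain ⟨r', rfl⟩ := σR.surjective r
      rw [← hcompA, ha]; rfl
    have hlt : Nat.card (A ⧸ φ.ker) + Nat.card R < c := by
      rw [← hc]
      haveI : Nontrivial φ.ker := (Subgroup.nontrivial_iff_ne_bot _).mpr hker
      refine Nat.add_lt_add_right ?_ _
      rw [Subgroup.card_eq_card_quotient_mul_card_subgroup φ.ker]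
      exact lt_mul_of_one_lt_right Nat.card_pos Finite.one_lt_card
    intro a r
    have h := ih _ hlt rfl (hA.to_quotient _) hR (H28.quotAut σA φ.ker hkσ) σR
      (MulEquiv.ext fun y => by
        obtain ⟨b, rfl⟩ := QuotientGroup.mk_surjective y
        rw [H28.quotAut_pow_mk, hσA]; rfl)
      hσR (H28.fpf_quotAut hfA φ.ker hkσ) hfR (QuotientGroup.kerLift φ)
      (fun y r => by
        obtain ⟨b, rfl⟩ := QuotientGroup.mk_surjective y
        exact hcompA b r)
      ρ hρ hcomp (QuotientGroup.mk a) r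
    rw [H28.quotAut_pow_mk] at h
    exact h
  have hφinj : Function.Injective φ := (MonoidHom.ker_eq_bot_iff φ).mp hker
  suffices H : ∀ a, τA a = a by intro a r; rw [H a]
  by_contra hno
  push Not at hno
  obtain ⟨a₀, ha₀⟩ := hno
  -- proper subgroups of `A`
  have hproperA : ∀ H : Subgroup A, (∀ x ∈ H, σA x ∈ H) → H ≠ ⊤ → ∀ x ∈ H, τA x = x := by
    intro H hH hne x hx
    have hlt : Nat.card H + Nat.card R < c := by
      rw [← hc]
      exact Nat.add_lt_add_right (lt_of_le_of_ne (Nat.le_of_dvd Nat.card_pos (Subgroup.card_subgroup_dvd_card H))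
        fun h => hne (Subgroup.eq_top_of_card_eq H h)) _
    have hh := ih _ hlt rfl (hA.to_subgroup H) hR (H28.subAut σA H hH) σR
      (MulEquiv.ext fun y => Subtype.ext (by rw [H28.subAut_pow_coe, hσA]; rfl)) hσR
      (H28.fpf_subAut hfA H hH) hfR (φ.comp H.subtype) (fun y r => hcompA y r) ρ hρ hcomp ⟨x, hx⟩
    apply hφinj
    refine MulEquiv.ext fun r => ?_
    have h' := hh r
    simp only [MonoidHom.comp_apply, Subgroup.coe_subtype, H28.subAut_pow_coe] at h'
    exact h'
  have hστA : ∀ a, σA (τA a) = τA (σA a) := fun a => by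
    rw [hτA, ← MulAut.mul_apply, ← pow_succ', pow_succ, MulAut.mul_apply]
  have hcop2A : (2 : ℕ).Coprime (Nat.card A) := by
    obtain ⟨i, hi⟩ := IsPGroup.iff_card.mp hA
    rw [hi]
    exact ((Nat.coprime_primes Nat.prime_two hsf.out).mpr (Ne.symm hs2)).pow_right _
  have hτA2 : τA ^ 2 = 1 := by rw [hτA, ← pow_mul, ← pow_succ, hσA]
  have hgenA : closure (Set.range fun a : A => a⁻¹ * τA a) = ⊤ := by
    by_contra hne
    have hσH : ∀ x ∈ closure (Set.range fun a : A => a⁻¹ * τA a), σA x ∈ closure (Set.range fun a : A => a⁻¹ * τA a) := by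
      intro x hx
      induction hx using Subgroup.closure_induction with
      | mem x hx =>
        obtain ⟨a, rfl⟩ := hx
        refine Subgroup.subset_closure ⟨σA a, ?_⟩
        show (σA a)⁻¹ * τA (σA a) = σA (a⁻¹ * τA a)
        rw [map_mul, map_inv, hστA]
      | one => rw [map_one]; exact one_mem _
      | mul x y _ _ hx hy => rw [map_mul]; exact mul_mem hx hy
      | inv x _ hx => rw [map_inv]; exact inv_mem hx
    exact ha₀ (eq_of_disp_fixed τA hτA2 hcop2A a₀ (hproperA _ hσH hne _ (Subgroup.subset_closure ⟨a₀, rfl⟩)))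
  -- proper invariant subgroups of `R`
  have hproperR : ∀ H : Subgroup R, (∀ x ∈ H, σR x ∈ H) → (∀ a, ∀ x ∈ H, φ a x ∈ H) → H ≠ ⊤ →
      ∀ a, ∀ x ∈ H, φ a x = x := by
    intro H hH hHA hne
    have hlt : Nat.card A + Nat.card H < c := by
      rw [← hc]
      exact Nat.add_lt_add_left (lt_of_le_of_ne (Nat.le_of_dvd Nat.card_pos (Subgroup.card_subgroup_dvd_card H))
        fun h => hne (Subgroup.eq_top_of_card_eq H h)) _
    let φH : A →* MulAut H :=
      { toFun := fun a => H28.subAut (φ a) H (hHA a)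
        map_one' := MulEquiv.ext fun y => Subtype.ext (by rw [H28.subAut_coe, map_one]; rfl)
        map_mul' := fun a b => MulEquiv.ext fun y => Subtype.ext (by
          rw [H28.subAut_coe, map_mul, MulAut.mul_apply, MulAut.mul_apply, H28.subAut_coe, H28.subAut_coe]) }
    have hh := ih _ hlt rfl hA (hR.to_subgroup H) σA (H28.subAut σR H hH) hσA
      (MulEquiv.ext fun y => Subtype.ext (by rw [H28.subAut_pow_coe, hσR]; rfl))
      hfA (H28.fpf_subAut hfR H hH) φH (fun a y => Subtype.ext (hcompA a y)) (ρ.comp H.subtype)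
      (hρ.comp H.subtype_injective) (fun y => hcomp y)
    intro a x hx
    let St : Subgroup A := φH.ker
    have hSt : St = ⊤ := by
      rw [eq_top_iff, ← hgenA, closure_le]
      rintro _ ⟨b, rfl⟩
      show φH (b⁻¹ * τA b) = 1
      rw [map_mul, show φH (τA b) = φH b from MulEquiv.ext (hh b), ← map_mul, inv_mul_cancel, map_one]
    have h1 : φH a = 1 := MonoidHom.mem_ker.mp (hSt ▸ Subgroup.mem_top a : a ∈ St)
    exact congrArg Subtype.val (DFunLike.congr_fun h1 ⟨x, hx⟩)
  have hcopAR : ∀ a : A, (orderOf a).Coprime (Nat.card R) := by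
    intro a
    obtain ⟨i, hi⟩ := IsPGroup.iff_orderOf.mp hA a
    obtain ⟨j, hj⟩ := IsPGroup.iff_card.mp hR
    rw [hi, hj]
    exact (((Nat.coprime_primes hsf.out hqf.out).mpr hsq).pow_left _).pow_right _
  have hgenR : closure (Set.range fun x : A × R => x.2⁻¹ * φ x.1 x.2) = ⊤ := by
    by_contra hne
    set H := closure (Set.range fun x : A × R => x.2⁻¹ * φ x.1 x.2) with hH
    have hmap : ∀ f : MulAut R, (∀ a r, ∃ b t, f (r⁻¹ * φ a r) = t⁻¹ * φ b t) → ∀ x ∈ H, f x ∈ H := by
      intro f hf x hx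
      induction hx using Subgroup.closure_induction with
      | mem x hx =>
        obtain ⟨⟨a, r⟩, rfl⟩ := hx
        obtain ⟨b, t, hbt⟩ := hf a r
        exact Subgroup.subset_closure ⟨(b, t), hbt.symm⟩
      | one => rw [map_one]; exact one_mem _
      | mul x y _ _ hx hy => rw [map_mul]; exact mul_mem hx hy
      | inv x _ hx => rw [map_inv]; exact inv_mem hx
    have h1 := hproperR H (hmap σR fun a r => ⟨σA a, σR r, by rw [map_mul, map_inv, hcompA]⟩)
      (fun b => hmap (φ b) fun a r => ⟨b * a * b⁻¹, φ b r, by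
        rw [map_mul, map_inv, map_mul, map_mul, MulAut.mul_apply, MulAut.mul_apply, map_inv φ b,
          MulAut.inv_apply_self]⟩) hne
    apply ha₀
    have h2 : ∀ a, φ a = 1 := fun a => MulEquiv.ext fun r =>
      eq_of_disp_fixed (φ a) (k := orderOf a) (by rw [← map_pow, pow_orderOf_eq_one, map_one]) (hcopAR a) r
        (h1 a _ (Subgroup.subset_closure ⟨(a, r), rfl⟩))
    exact hφinj (by rw [h2, h2])
  have hτσR : ∀ (i : ℕ) a r, (σR ^ i) (φ a r) = φ ((σA ^ i) a) ((σR ^ i) r) := by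
    intro i
    induction i with
    | zero => intro a r; rfl
    | succ i ih' =>
      intro a r
      rw [pow_succ', pow_succ', MulAut.mul_apply, MulAut.mul_apply, MulAut.mul_apply, ih', hcompA]
  -- `R` is nonabelian
  have hZne : center R ≠ ⊤ := by
    intro h
    have hab : ∀ a b : R, a * b = b * a := fun a b => Subgroup.mem_center_iff.mp (h ▸ Subgroup.mem_top b) a
    have h1 := image_fixed hR hqK Nat.prime_two σR hσR ρ (fun a b => by rw [← map_mul, ← map_mul, hab])
      S hcomp hsum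
    apply ha₀
    apply hφinj
    refine MulEquiv.ext fun r => ?_
    have h2 := hτσR (2 ^ n) a₀ r
    rw [hρ (h1 r), hρ (h1 (φ a₀ r))] at h2
    exact h2.symm
  have hAZ := hproperR (center R) (H28.char_apply_mem σR _) (fun a => H28.char_apply_mem (φ a) _) hZne
  haveI : Nontrivial R := by
    by_contra hR1
    rw [not_nontrivial_iff_subsingleton] at hR1
    exact hZne (Subsingleton.elim _ _)
  haveI : Group.IsNilpotent R := hR.isNilpotent
  haveI : Group.IsSolvable R := inferInstance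
  have hder := hproperR (commutator R) (H28.char_apply_mem σR _) (fun a => H28.char_apply_mem (φ a) _)
    (Group.IsSolvable.commutator_lt_top_of_nontrivial R).ne
  have hD : commutator R ≤ center R := le_center_of_fixed (fun a => φ a) hgenR _ inferInstance hder
  have hcls : ∀ a b : R, a * b * a⁻¹ * b⁻¹ ∈ center R := fun a b =>
    hD (Subgroup.commutator_mem_commutator (Subgroup.mem_top a) (Subgroup.mem_top b))
  -- exponent modulo the centre
  let Zc := center R
  letI : CommGroup (R ⧸ Zc) := { (inferInstance : Group (R ⧸ Zc)) with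
    mul_comm := fun x y => by
      obtain ⟨a, rfl⟩ := QuotientGroup.mk_surjective x
      obtain ⟨b, rfl⟩ := QuotientGroup.mk_surjective y
      refine (QuotientGroup.eq.mpr ?_ : (QuotientGroup.mk (a * b) : R ⧸ Zc) = QuotientGroup.mk (b * a))
      have h := hcls b⁻¹ a⁻¹
      simpa [mul_assoc] using h }
  let Hq : Subgroup R := ((powMonoidHom q : R ⧸ Zc →* R ⧸ Zc).range).comap (QuotientGroup.mk' Zc)
  have hHqmap : ∀ (f : MulAut R), ∀ x ∈ Hq, f x ∈ Hq := by
    intro f x hx
    obtain ⟨y, hy⟩ := hx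
    obtain ⟨b, rfl⟩ := QuotientGroup.mk_surjective y
    refine ⟨QuotientGroup.mk (f b), ?_⟩
    show (QuotientGroup.mk (f b) : R ⧸ Zc) ^ q = QuotientGroup.mk (f x)
    rw [← QuotientGroup.mk_pow, ← map_pow, QuotientGroup.eq]
    have h' : (b ^ q)⁻¹ * x ∈ Zc := QuotientGroup.eq.mp (by
      rw [QuotientGroup.mk_pow]; exact hy)
    rw [← map_inv, ← map_mul]
    exact H28.char_apply_mem f Zc _ h'
  have hHqne : Hq ≠ ⊤ := by
    intro h
    have hsurj : Function.Surjective (powMonoidHom q : R ⧸ Zc →* R ⧸ Zc) := by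
      intro y
      obtain ⟨b, rfl⟩ := QuotientGroup.mk_surjective y
      exact (h ▸ Subgroup.mem_top b : b ∈ Hq)
    haveI : Nontrivial (R ⧸ Zc) := (QuotientGroup.nontrivial_iff).mpr hZne
    have hdvd : q ∣ Nat.card (R ⧸ Zc) := by
      rcases (hR.to_quotient Zc).card_eq_or_dvd with h' | h'
      · exact absurd h' Finite.one_lt_card.ne'
      · exact h'
    obtain ⟨y, hy⟩ := exists_prime_orderOf_dvd_card' q hdvd
    have hy0 : (powMonoidHom q : R ⧸ Zc →* R ⧸ Zc) y = (powMonoidHom q : R ⧸ Zc →* R ⧸ Zc) 1 := by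
      show y ^ q = 1 ^ q
      rw [one_pow, ← hy, pow_orderOf_eq_one]
    rw [Finite.injective_iff_surjective.mpr hsurj hy0, orderOf_one] at hy
    exact hqf.out.one_lt.ne hy
  have hHqfix := hproperR Hq (hHqmap σR) (fun a => hHqmap (φ a)) hHqne
  haveI : Hq.Normal := by
    haveI : ((powMonoidHom q : R ⧸ Zc →* R ⧸ Zc).range).Normal := ⟨fun x hx g => by rwa [mul_inv_cancel_comm]⟩
    exact Subgroup.Normal.comap inferInstance _
  have hexpR : ∀ x : R, x ^ q ∈ center R := fun x =>
    le_center_of_fixed (fun a => φ a) hgenR Hq inferInstance hHqfix ⟨QuotientGroup.mk x, rfl⟩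
  -- the centre of `R` is fixed by `τ`
  have hτZ : ∀ z ∈ center R, (σR ^ (2 ^ n)) z = z := by
    intro z hz
    have h := image_fixed (hR.to_subgroup Zc) hqK Nat.prime_two (H28.subAut σR Zc (H28.char_apply_mem σR _))
      (n := n) (MulEquiv.ext fun y => Subtype.ext (by rw [H28.subAut_pow_coe, hσR]; rfl)) (ρ.comp Zc.subtype)
      (fun a b => by
        show ρ (a : R) * ρ (b : R) = ρ (b : R) * ρ (a : R)
        rw [← map_mul, ← map_mul, Subgroup.mem_center_iff.mp b.2 (a : R)])
      S (fun y => hcomp y) hsum ⟨z, hz⟩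
    simp only [MonoidHom.comp_apply, Subgroup.coe_subtype, H28.subAut_pow_coe] at h
    exact hρ h
  -- `A` is nonabelian
  have hEexp : ∀ e : R ⧸ Zc, e ^ q = 1 := by
    intro e
    obtain ⟨a, rfl⟩ := QuotientGroup.mk_surjective e
    exact (QuotientGroup.eq_one_iff (a ^ q)).mpr (hexpR a)
  have hφZinv : ∀ a, ∀ x ∈ Zc, φ a x ∈ Zc := fun a => H28.char_apply_mem (φ a) Zc
  have hfaith : ∀ a, (∀ x : R, x⁻¹ * φ a x ∈ Zc) → φ a = 1 := fun a ha => MulEquiv.ext fun r =>
    eq_of_disp_fixed (φ a) (k := orderOf a) (by rw [← map_pow, pow_orderOf_eq_one, map_one]) (hcopAR a) r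
      (hAZ a _ (ha r))
  by_cases hab : ∀ a b : A, a * b = b * a
  · obtain ⟨m, T, hT, hTfix⟩ := exists_autRep hEexp
    let σE : MulAut (R ⧸ Zc) := H28.quotAut σR Zc (H28.char_apply_mem σR _)
    let φE := quotHom φ Zc hφZinv
    have hTS : T σE ^ (2 ^ (n + 1)) = 1 := by
      rw [← map_pow, show σE ^ (2 ^ (n + 1)) = 1 from MulEquiv.ext fun y => by
        obtain ⟨b, rfl⟩ := QuotientGroup.mk_surjective y
        rw [H28.quotAut_pow_mk, hσR]; rfl, map_one]
    have hsK : (s : AlgebraicClosure (ZMod q)) ≠ 0 := fun h => by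
      rw [CharP.cast_eq_zero_iff (AlgebraicClosure (ZMod q)) q] at h
      exact hsq ((Nat.prime_dvd_prime_iff_eq hqf.out hsf.out).mp h).symm
    have h1 := image_fixed hA hsK Nat.prime_two σA hσA (T.comp φE)
      (fun a b => by rw [← map_mul, ← map_mul, hab]) (T σE)
      (fun a => by
        show T σE * T (φE a) = T (φE (σA a)) * T σE
        rw [← map_mul, ← map_mul]
        congr 1
        refine MulEquiv.ext fun y => ?_
        obtain ⟨b, rfl⟩ := QuotientGroup.mk_surjective y
        show QuotientGroup.mk (σR (φ a b)) = QuotientGroup.mk (φ (σA a) (σR b))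
        rw [hcompA])
      (sum_pow_eq_zero _ hTS (hTfix σE (H28.fpf_quotAut hfR Zc (H28.char_apply_mem σR _)))) a₀
    apply ha₀
    apply hφinj
    have h2 : φE (a₀⁻¹ * τA a₀) = 1 := by
      rw [map_mul, hT h1, ← map_mul, inv_mul_cancel, map_one]
    have h3 := hfaith (a₀⁻¹ * τA a₀) fun x => QuotientGroup.eq.mp (DFunLike.congr_fun h2 (QuotientGroup.mk x)).symm
    rw [map_mul, map_inv, inv_mul_eq_one] at h3
    exact h3.symm
  push Not at hab
  obtain ⟨a₁, b₁, hab₁⟩ := hab
  haveI : Nontrivial A := ⟨a₁ * b₁, b₁ * a₁, hab₁⟩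
  haveI : Group.IsNilpotent A := hA.isNilpotent
  haveI : Group.IsSolvable A := inferInstance
  have hderA := hproperA (commutator A) (H28.char_apply_mem σA _) (Group.IsSolvable.commutator_lt_top_of_nontrivial A).ne
  have hgenA' : closure (Set.range fun x : Unit × A => x.2⁻¹ * τA x.2) = ⊤ := by
    rw [eq_top_iff, ← hgenA]
    exact closure_mono (by rintro _ ⟨a, rfl⟩; exact ⟨((), a), rfl⟩)
  have hDA : commutator A ≤ center A := le_center_of_fixed (fun _ : Unit => τA) hgenA' _ inferInstance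
    fun _ => hderA
  set ω := a₁ * b₁ * a₁⁻¹ * b₁⁻¹ with hω
  have hωD : ω ∈ commutator A := Subgroup.commutator_mem_commutator (Subgroup.mem_top _) (Subgroup.mem_top _)
  have hωtriv : φ ω = 1 := by
    refine hfaith ω fun x => ?_
    rw [Subgroup.mem_center_iff]
    intro y
    have h := eq_smul_of_eigen (ρ.comp Zc.subtype)
      (fun a b => by
        show ρ (a : R) * ρ (b : R) = ρ (b : R) * ρ (a : R)
        rw [← map_mul, ← map_mul, Subgroup.mem_center_iff.mp b.2 (a : R)])
      ⟨_, hcls (x⁻¹ * φ ω x) y⟩ (natCast_orderOf_ne_zero (hR.to_subgroup Zc) hqK _) 1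
      (fun v hv χ hχ => radical_step hA hR hs2 hq2 hsq hK2 hqK σA σR hσR φ hcompA hgenA hcls hexpR hAZ hτZ ω
        (hDA hωD) (hderA ω hωD) ρ S hS hcomp hsum v hv χ hχ x y)
    rw [one_smul] at h
    have h' : (x⁻¹ * φ ω x) * y * (x⁻¹ * φ ω x)⁻¹ * y⁻¹ = 1 := hρ (h.trans (map_one ρ).symm)
    rw [mul_inv_eq_one, mul_inv_eq_iff_eq_mul] at h'
    exact h'.symm
  have : ω = 1 := hφinj (by rw [hωtriv, map_one])
  rw [hω, mul_inv_eq_one, mul_inv_eq_iff_eq_mul] at this
  exact hab₁ this

/-- The configuration. -/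
theorem config {s q n : ℕ} [hsf : Fact s.Prime] [hqf : Fact q.Prime] (hs2 : s ≠ 2) (hq2 : q ≠ 2)
    (hsq : s ≠ q) (hK2 : (2 : K) ≠ 0) (hqK : (q : K) ≠ 0) (S : Module.End K V)
    (hS : S ^ (2 ^ (n + 1)) = 1) (hfixS : ∀ v, S v = v → v = 0)
    {A : Type u} [Group A] [Finite A] {R : Type u} [Group R] [Finite R] (hA : IsPGroup s A)
    (hR : IsPGroup q R) (σA : MulAut A) (σR : MulAut R) (hσA : σA ^ (2 ^ (n + 1)) = 1)
    (hσR : σR ^ (2 ^ (n + 1)) = 1) (hfA : FPF σA) (hfR : FPF σR) (φ : A →* MulAut R)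
    (hcompA : ∀ a r, σR (φ a r) = φ (σA a) (σR r)) (ρ : R →* Module.End K V)
    (hkerA : ∀ a r, ρ r = 1 → ρ (φ a r) = 1) (hcomp : ∀ r, S * ρ r = ρ (σR r) * S) (a : A) (r : R) :
    ρ (φ ((σA ^ (2 ^ n)) a) r) = ρ (φ a r) := by
  have hinv : ∀ x ∈ ρ.ker, σR x ∈ ρ.ker := by
    intro x hx
    rw [MonoidHom.mem_ker] at hx ⊢
    have h := hcomp x
    rw [hx, mul_one] at h
    have h' := congrArg (fun t => t * S ^ (2 ^ (n + 1) - 1)) h
    simp only [mul_assoc] at h'
    rw [← pow_succ', show 2 ^ (n + 1) - 1 + 1 = 2 ^ (n + 1) by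
      have := Nat.one_le_two_pow (n := n + 1); omega, hS, mul_one] at h'
    exact h'.symm
  have hinvA : ∀ a, ∀ x ∈ ρ.ker, φ a x ∈ ρ.ker := fun a x hx =>
    MonoidHom.mem_ker.mpr (hkerA a x (MonoidHom.mem_ker.mp hx))
  let ρb : R ⧸ ρ.ker →* Module.End K V := QuotientGroup.lift ρ.ker ρ le_rfl
  have hρbmk : ∀ x : R, ρb (QuotientGroup.mk x) = ρ x := fun x => QuotientGroup.lift_mk' _ _ x
  have hρb : Function.Injective ρb := by
    intro x y hxy
    obtain ⟨x, rfl⟩ := QuotientGroup.mk_surjective x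
    obtain ⟨y, rfl⟩ := QuotientGroup.mk_surjective y
    rw [hρbmk, hρbmk] at hxy
    refine QuotientGroup.eq.mpr (MonoidHom.mem_ker.mpr ?_)
    rw [map_mul, ← hxy, ← map_mul, inv_mul_cancel, map_one]
  have h := config_aux hs2 hq2 hsq hK2 hqK S hS (sum_pow_eq_zero S hS hfixS) _ rfl hA (hR.to_quotient _) σA
    (H28.quotAut σR ρ.ker hinv) hσA
    (MulEquiv.ext fun y => by
      obtain ⟨b, rfl⟩ := QuotientGroup.mk_surjective y
      rw [H28.quotAut_pow_mk, hσR]; rfl)
    hfA (H28.fpf_quotAut hfR ρ.ker hinv) (quotHom φ ρ.ker hinvA)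
    (fun a y => by
      obtain ⟨b, rfl⟩ := QuotientGroup.mk_surjective y
      show QuotientGroup.mk (σR (φ a b)) = QuotientGroup.mk (φ (σA a) (σR b))
      rw [hcompA])
    ρb hρb
    (fun y => by
      obtain ⟨b, rfl⟩ := QuotientGroup.mk_surjective y
      rw [H28.quotAut_mk, hρbmk, hρbmk]
      exact hcomp b)
    a (QuotientGroup.mk r)
  rw [quotHom_mk, quotHom_mk] at h
  rw [← hρbmk, h, hρbmk]

end H1.Gross
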