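import Cfsg.Agent.H29.EigenProjections

/-!
The plane lemma for Gross's theorem: on a group of order `r ^ 2` and exponent `r` with a nondegenerate
pairing, an automorphism of odd order commuting with its conjugate by an element `u` of order `2 ^ m`,
`r = 2 ^ m - 1`, `u ^ (2 ^ (m - 1)) = -1`, is trivial.
-/

set_option autoImplicit false
set_option linter.style.haveILetI false

namespace H1.Gross

open Module
open Cfsg.Agent.H29 (eigProj sum_eigProj mul_eigProj)

universe u

/-- An endomorphism with `f ^ k = 1`, over a field with all `k`-th roots of unity, is diagonalisable. -/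
theorem eq_smul_one_or_two_eigen {F : Type*} [Field F] {E : Type*} [AddCommGroup E] [Module F E]
    (f : Module.End F E) {k : ℕ} {ζ : F} (hζ : IsPrimitiveRoot ζ k) (hk : (k : F) ≠ 0) (hf : f ^ k = 1) :
    (∃ a : F, ∀ e, f e = a • e) ∨
      ∃ a b : F, a ≠ b ∧ ∃ v w : E, v ≠ 0 ∧ w ≠ 0 ∧ f v = a • v ∧ f w = b • w := by
  classical
  have hsum : ∀ e, ∑ i, eigProj f k ζ i e = e := fun e => by
    rw [← LinearMap.sum_apply, sum_eigProj f hζ hk]; rfl
  have hmul : ∀ i e, f (eigProj f k ζ i e) = ζ ^ (i : ℕ) • eigProj f k ζ i e := fun i e =>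
    congrArg (fun g : Module.End F E => g e) (mul_eigProj f hζ hk hf i)
  by_cases h : ∃ i j : Fin k, i ≠ j ∧ eigProj f k ζ i ≠ 0 ∧ eigProj f k ζ j ≠ 0
  · obtain ⟨i, j, hij, hi, hj⟩ := h
    obtain ⟨v, hv⟩ := not_forall.mp fun h => hi (LinearMap.ext h)
    obtain ⟨w, hw⟩ := not_forall.mp fun h => hj (LinearMap.ext h)
    exact Or.inr ⟨_, _, fun he => hij (Fin.ext (hζ.pow_inj i.2 j.2 he)), _, _, hv, hw, hmul i v, hmul j w⟩
  · push Not at h
    left
    by_cases h0 : ∃ i, eigProj f k ζ i ≠ 0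
    · obtain ⟨i, hi⟩ := h0
      refine ⟨ζ ^ (i : ℕ), fun e => ?_⟩
      have he : e = eigProj f k ζ i e := by
        conv_lhs => rw [← hsum e]
        refine Finset.sum_eq_single i (fun j _ hj => ?_) fun h' => absurd (Finset.mem_univ i) h'
        rw [h i j (Ne.symm hj) hi, LinearMap.zero_apply]
      rw [he, hmul]
    · push Not at h0
      refine ⟨1, fun e => ?_⟩
      have : e = 0 := by rw [← hsum e]; exact Finset.sum_eq_zero fun i _ => by rw [h0 i, LinearMap.zero_apply]
      simp [this]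

/-- Two independent vectors in a plane: every eigenvector lies on one of the two lines. -/
theorem eigen_mem_line {F : Type*} [Field F] {E : Type*} [AddCommGroup E] [Module F E]
    [FiniteDimensional F E] (hdim : finrank F E = 2) {f : Module.End F E} {a b : F} (hab : a ≠ b) {v w : E}
    (hv : v ≠ 0) (hw : w ≠ 0) (hfv : f v = a • v) (hfw : f w = b • w) {x : E} (hfx : f x = a • x) :
    ∃ c : F, x = c • v := by
  have hli : LinearIndependent F ![v, w] := by
    rw [LinearIndependent.pair_iff]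
    intro c d hcd
    have h1 := congrArg f hcd
    rw [map_add, map_smul, map_smul, hfv, hfw, map_zero] at h1
    have h2 : ((b - a) * d) • w = 0 := by
      have h3 : c • a • v + d • b • w - a • (c • v + d • w) = 0 := by rw [h1, hcd, smul_zero, sub_zero]
      rw [← h3]; module
    have hd : d = 0 := ((mul_eq_zero.mp ((smul_eq_zero.mp h2).resolve_right hw)).resolve_left
      (sub_ne_zero.mpr hab.symm))
    rw [hd, zero_smul, add_zero] at hcd
    exact ⟨(smul_eq_zero.mp hcd).resolve_right hv, hd⟩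
  have hspan := hli.span_eq_top_of_card_eq_finrank (by simp [hdim])
  have hx : x ∈ Submodule.span F (Set.range ![v, w]) := hspan ▸ Submodule.mem_top
  rw [Matrix.range_cons_cons_empty, Submodule.mem_span_pair] at hx
  obtain ⟨c, d, rfl⟩ := hx
  refine ⟨c, ?_⟩
  rw [map_add, map_smul, map_smul, hfv, hfw] at hfx
  have h2 : ((b - a) * d) • w = 0 := by
    have h3 : c • a • v + d • b • w - a • (c • v + d • w) = 0 := by rw [hfx, sub_self]
    rw [← h3]; module
  have hd : d = 0 := ((mul_eq_zero.mp ((smul_eq_zero.mp h2).resolve_right hw)).resolve_left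
    (sub_ne_zero.mpr hab.symm))
  rw [hd, zero_smul, add_zero]

theorem plane_linear {r m ℓ : ℕ} [hr : Fact r.Prime] (hm : 1 ≤ m) (hrm : r + 1 = 2 ^ (m + 1))
    {E : Type*} [AddCommGroup E] [Module (ZMod r) E] [FiniteDimensional (ZMod r) E]
    (hdim : finrank (ZMod r) E = 2) {K : Type*} [Field K] (B : E → E → K)
    (hBl : ∀ a b c, B (a + b) c = B a c * B b c) (hBr : ∀ a b c, B a (b + c) = B a b * B a c)
    (hBnd : ∀ a, (∀ b, B a b = 1) → a = 0) (hBz : ∀ a, B a 0 = 1)
    (U W : (Module.End (ZMod r) E)ˣ) (hU : ∀ e, ((U ^ 2 ^ m : (Module.End (ZMod r) E)ˣ) : Module.End (ZMod r) E) e = -e)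
    (hℓ : ℓ.Prime) (hℓ2 : ℓ ≠ 2) (hℓr : ℓ ≠ r) (hW : W ^ ℓ = 1) (hcomm : Commute (U * W * U⁻¹) W)
    (hpres : ∀ a b, B ((W : Module.End (ZMod r) E) a) ((W : Module.End (ZMod r) E) b) = B a b) : W = 1 := by
  classical
  haveI : Finite E := Module.finite_of_finite (ZMod r)
  haveI := Fintype.ofFinite E
  haveI : Nontrivial E := Module.nontrivial_of_finrank_eq_succ (R := ZMod r) hdim
  have hr2 : 2 < r := by
    have : 2 ^ 2 ≤ 2 ^ (m + 1) := Nat.pow_le_pow_right (by norm_num) (by omega)
    omega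
  by_contra hW1
  haveI := Fact.mk hℓ
  have hord : orderOf W = ℓ := orderOf_eq_prime hW hW1
  -- `ℓ` divides `r - 1`
  have hℓdvd : ℓ ∣ r - 1 := by
    let b : Basis (Fin 2) (ZMod r) E := Module.finBasisOfFinrankEq (ZMod r) E hdim
    let e : (Module.End (ZMod r) E)ˣ ≃* GL (Fin 2) (ZMod r) :=
      Units.mapEquiv (LinearMap.toMatrixAlgEquiv b).toMulEquiv
    have h1 : ℓ ∣ Nat.card (GL (Fin 2) (ZMod r)) := by
      rw [← hord, ← e.orderOf_eq W]
      exact orderOf_dvd_natCard _
    rw [Matrix.card_GL_field, Fin.prod_univ_two, ZMod.card] at h1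
    simp only [Fin.val_zero, Fin.val_one, pow_zero, pow_one] at h1
    have hsq : r ^ 2 - 1 = (r + 1) * (r - 1) := by rw [← Nat.sq_sub_sq, one_pow]
    have hsq2 : r ^ 2 - r = r * (r - 1) := by rw [Nat.mul_sub, mul_one, sq]
    rw [hsq, hsq2, hrm] at h1
    rcases (Nat.Prime.dvd_mul hℓ).mp h1 with h | h
    · rcases (Nat.Prime.dvd_mul hℓ).mp h with h' | h'
      · exact absurd ((Nat.prime_dvd_prime_iff_eq hℓ Nat.prime_two).mp (hℓ.dvd_of_dvd_pow h')) hℓ2
      · exact h'
    · rcases (Nat.Prime.dvd_mul hℓ).mp h with h' | h'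
      · exact absurd ((Nat.prime_dvd_prime_iff_eq hℓ hr.out).mp h') hℓr
      · exact h'
  have hWr : ((W : Module.End (ZMod r) E)) ^ (r - 1) = 1 := by
    obtain ⟨c, hc⟩ := hℓdvd
    rw [← Units.val_pow_eq_pow_val, hc, pow_mul, hW, one_pow, Units.val_one]
  obtain ⟨ζ, hζ⟩ : ∃ ζ : ZMod r, IsPrimitiveRoot ζ (r - 1) := by
    haveI : IsCyclic (ZMod r)ˣ := inferInstance
    obtain ⟨g, hg⟩ := IsCyclic.exists_generator (α := (ZMod r)ˣ)
    refine ⟨g, IsPrimitiveRoot.coe_units_iff.mpr ?_⟩
    have : orderOf g = r - 1 := by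
      rw [orderOf_eq_card_of_forall_mem_zpowers hg, Nat.card_eq_fintype_card, ZMod.card_units r]
    exact this ▸ IsPrimitiveRoot.orderOf g
  have hk : ((r - 1 : ℕ) : ZMod r) ≠ 0 := by
    rw [Ne, ZMod.natCast_eq_zero_iff]
    intro h
    have := Nat.le_of_dvd (by omega) h
    omega
  have hWeq : ∀ e, (((W : Module.End (ZMod r) E)) ^ ℓ) e = e := fun e => by
    rw [← Units.val_pow_eq_pow_val, hW]; rfl
  rcases eq_smul_one_or_two_eigen (W : Module.End (ZMod r) E) hζ hk hWr with ⟨a, ha⟩ | ⟨a, b, hab, v, w, hv, hw, hfv, hfw⟩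
  · -- a scalar preserving the form
    have hBsmul : ∀ (n : ℕ) x y, B (n • x) y = B x y ^ n ∧ B y (n • x) = B y x ^ n := by
      intro n x y
      induction n with
      | zero =>
        refine ⟨?_, by rw [zero_smul, pow_zero, hBz]⟩
        rw [zero_smul, pow_zero]
        have h := hBl 0 0 y
        rw [add_zero] at h
        have hne : B 0 y ≠ 0 := by
          intro h0
          have h1 := hBr 0 y (-y)
          rw [add_neg_cancel, hBz, h0, zero_mul] at h1
          exact one_ne_zero h1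
        exact (mul_left_cancel₀ hne (by rw [mul_one]; exact h)).symm
      | succ n ih => rw [succ_nsmul, hBl, hBr, ih.1, ih.2, pow_succ, pow_succ]; exact ⟨rfl, rfl⟩
    have hB2 : a * a = 1 := by
      obtain ⟨x, hx⟩ : ∃ x : E, x ≠ 0 := exists_ne 0 |>.imp fun _ h => h
      by_contra hne
      have hd : (a * a - 1) • x ≠ 0 := smul_ne_zero (sub_ne_zero.mpr hne) hx
      refine hd (hBnd _ fun y => ?_)
      rw [sub_smul, one_smul, sub_eq_add_neg, hBl]
      have h1 := hpres x y
      rw [ha, ha, ← ZMod.natCast_zmod_val a, Nat.cast_smul_eq_nsmul, Nat.cast_smul_eq_nsmul,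
        (hBsmul _ _ _).1, (hBsmul _ _ _).2, ← pow_mul, ← (hBsmul (a.val * a.val) x y).1,
        ← Nat.cast_smul_eq_nsmul (ZMod r), Nat.cast_mul, ZMod.natCast_zmod_val] at h1
      rw [h1, ← hBl, add_neg_cancel]
      have h2 := (hBsmul 0 x y).1
      rwa [zero_smul, pow_zero] at h2
    apply hW1
    have hWa : ∀ n : ℕ, ∀ e, (((W : Module.End (ZMod r) E)) ^ n) e = a ^ n • e := by
      intro n
      induction n with
      | zero => simp
      | succ n ih => intro e; rw [pow_succ', Module.End.mul_apply, ih, ha, smul_smul, ← pow_succ']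
    refine Units.ext (LinearMap.ext fun e => ?_)
    obtain ⟨j, hj⟩ := hℓ.odd_of_ne_two hℓ2
    have h := hWa ℓ e
    rw [hWeq, hj, pow_add, pow_mul, pow_one, sq, hB2, one_pow, one_mul] at h
    rw [ha]; exact h.symm
  · -- two eigenlines, permuted by `U`
    set W' : (Module.End (ZMod r) E)ˣ := U * W * U⁻¹ with hW'
    have hUW : ∀ e, (W' : Module.End (ZMod r) E) ((U : Module.End (ZMod r) E) e) =
        (U : Module.End (ZMod r) E) ((W : Module.End (ZMod r) E) e) := fun e => by
      rw [← Module.End.mul_apply, ← Module.End.mul_apply, ← Units.val_mul, ← Units.val_mul, hW',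
        inv_mul_cancel_right]
    have hUinj : Function.Injective (U : Module.End (ZMod r) E) := fun x y h => by
      have := congrArg ((U⁻¹ : (Module.End (ZMod r) E)ˣ) : Module.End (ZMod r) E) h
      simpa [← Module.End.mul_apply] using this
    have hline : ∀ (a₁ b₁ : ZMod r) (v₁ w₁ : E), a₁ ≠ b₁ → v₁ ≠ 0 → w₁ ≠ 0 →
        (W : Module.End (ZMod r) E) v₁ = a₁ • v₁ → (W : Module.End (ZMod r) E) w₁ = b₁ • w₁ →
        ∃ c : ZMod r, (W' : Module.End (ZMod r) E) v₁ = c • v₁ := by
      intro a₁ b₁ v₁ w₁ h1 h2 h3 h4 h5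
      refine eigen_mem_line hdim h1 h2 h3 h4 h5 ?_
      rw [← Module.End.mul_apply, ← Units.val_mul, ← hcomm.eq, Units.val_mul, Module.End.mul_apply, h4,
        map_smul]
    obtain ⟨ca, hca⟩ := hline a b v w hab hv hw hfv hfw
    obtain ⟨cb, hcb⟩ := hline b a w v hab.symm hw hv hfw hfv
    -- the lines of `W'`
    have hUv : (W' : Module.End (ZMod r) E) ((U : Module.End (ZMod r) E) v) = a • (U : Module.End (ZMod r) E) v := by
      rw [hUW, hfv, map_smul]
    have hUw : (W' : Module.End (ZMod r) E) ((U : Module.End (ZMod r) E) w) = b • (U : Module.End (ZMod r) E) w := by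
      rw [hUW, hfw, map_smul]
    have hUv0 : (U : Module.End (ZMod r) E) v ≠ 0 := fun h => hv (hUinj (by rw [h, map_zero]))
    have hUw0 : (U : Module.End (ZMod r) E) w ≠ 0 := fun h => hw (hUinj (by rw [h, map_zero]))
    -- `v` and `w` are eigenvectors of `W'` for the eigenvalues `a`, `b`
    have hval : ∀ x c, x ≠ 0 → (W' : Module.End (ZMod r) E) x = c • x → c = a ∨ c = b := by
      intro x c hx hc
      by_contra hno
      push Not at hno
      obtain ⟨c1, hc1⟩ := eigen_mem_line hdim hno.1 hx hUv0 hc hUv (x := x) hc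
      have hli : LinearIndependent (ZMod r) ![(U : Module.End (ZMod r) E) v, (U : Module.End (ZMod r) E) w, x] := by
        refine Fintype.linearIndependent_iff.mpr fun g hg => ?_
        simp only [Fin.sum_univ_three, Matrix.cons_val_zero, Matrix.cons_val_one, Matrix.cons_val] at hg
        have h1 := congrArg (W' : Module.End (ZMod r) E) hg
        simp only [map_add, map_smul, map_zero, hUv, hUw, hc, smul_smul] at h1
        have h2 := congrArg (W' : Module.End (ZMod r) E) h1
        simp only [map_add, map_smul, map_zero, hUv, hUw, hc, smul_smul] at h2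
        have e2 : (g 2 * ((c - a) * (c - b))) • x = 0 := by
          have : (g 0 * a * a) • (U : Module.End (ZMod r) E) v + (g 1 * b * b) • (U : Module.End (ZMod r) E) w + (g 2 * c * c) • x
              - (a + b) • ((g 0 * a) • (U : Module.End (ZMod r) E) v + (g 1 * b) • (U : Module.End (ZMod r) E) w + (g 2 * c) • x)
              + (a * b) • (g 0 • (U : Module.End (ZMod r) E) v + g 1 • (U : Module.End (ZMod r) E) w + g 2 • x) = 0 := by
            rw [h2, h1, hg, smul_zero, smul_zero, sub_zero, add_zero]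
          rw [← this]; module
        have g2 : g 2 = 0 := (mul_eq_zero.mp ((smul_eq_zero.mp e2).resolve_right hx)).resolve_right
          (mul_ne_zero (sub_ne_zero.mpr hno.1) (sub_ne_zero.mpr hno.2))
        rw [g2, zero_smul, add_zero] at hg
        have h1' := congrArg (W' : Module.End (ZMod r) E) hg
        simp only [map_add, map_smul, map_zero, hUv, hUw, smul_smul] at h1'
        have e1 : (g 1 * (b - a)) • (U : Module.End (ZMod r) E) w = 0 := by
          have : (g 0 * a) • (U : Module.End (ZMod r) E) v + (g 1 * b) • (U : Module.End (ZMod r) E) w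
              - a • (g 0 • (U : Module.End (ZMod r) E) v + g 1 • (U : Module.End (ZMod r) E) w) = 0 := by
            rw [h1', hg, smul_zero, sub_zero]
          rw [← this]; module
        have g1 : g 1 = 0 := (mul_eq_zero.mp ((smul_eq_zero.mp e1).resolve_right hUw0)).resolve_right
          (sub_ne_zero.mpr hab.symm)
        rw [g1, zero_smul, add_zero] at hg
        have g0 : g 0 = 0 := (smul_eq_zero.mp hg).resolve_right hUv0
        intro i; fin_cases i <;> assumption
      have := hli.fintype_card_le_finrank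
      simp [hdim] at this
    have hU2v : ∃ c : ZMod r, (U : Module.End (ZMod r) E) ((U : Module.End (ZMod r) E) v) = c • v := by
      rcases hval v ca hv hca with h | h
      · obtain ⟨c, hc⟩ := eigen_mem_line hdim hab hUv0 hUw0 hUv hUw (h ▸ hca)
        have hc0 : c ≠ 0 := fun h0 => hv (by rw [hc, h0, zero_smul])
        refine ⟨c⁻¹ * c⁻¹, ?_⟩
        have h1 : (U : Module.End (ZMod r) E) v = c⁻¹ • v := by
          conv_rhs => rw [hc]
          rw [smul_smul, inv_mul_cancel₀ hc0, one_smul]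
        rw [h1, map_smul, h1, smul_smul]
      · obtain ⟨c, hc⟩ := eigen_mem_line hdim hab.symm hUw0 hUv0 hUw hUv (h ▸ hca)
        have hc0 : c ≠ 0 := fun h0 => hv (by rw [hc, h0, zero_smul])
        have hwb : cb = a := by
          rcases hval w cb hw hcb with h' | h'
          · exact h'
          · exfalso
            obtain ⟨d, hd⟩ := eigen_mem_line hdim hab.symm hUw0 hUv0 hUw hUv (h' ▸ hcb)
            have hwv : w = (d * c⁻¹) • v := by
              rw [hd, hc, smul_smul, mul_assoc, inv_mul_cancel₀ hc0, mul_one]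
            have h9 : b • w = a • w := by
              rw [← hfw]
              conv_lhs => rw [hwv, map_smul, hfv, smul_comm, ← hwv]
            exact hab (smul_left_injective _ hw h9).symm
        obtain ⟨d, hd⟩ := eigen_mem_line hdim hab hUv0 hUw0 hUv hUw (hwb ▸ hcb)
        have hd0 : d ≠ 0 := fun h0 => hw (by rw [hd, h0, zero_smul])
        refine ⟨d⁻¹ * c⁻¹, ?_⟩
        have h1 : (U : Module.End (ZMod r) E) v = d⁻¹ • w := by
          rw [hd, smul_smul, inv_mul_cancel₀ hd0, one_smul]
        have h2 : (U : Module.End (ZMod r) E) w = c⁻¹ • v := by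
          rw [hc, smul_smul, inv_mul_cancel₀ hc0, one_smul]
        rw [h1, map_smul, h2, smul_smul]
    obtain ⟨c, hc⟩ := hU2v
    have hc2 : ∀ j : ℕ, ((U : Module.End (ZMod r) E) ^ (2 * j)) v = c ^ j • v := by
      intro j
      induction j with
      | zero => simp
      | succ j ih =>
        rw [Nat.mul_succ, pow_add, Module.End.mul_apply, sq, Module.End.mul_apply, hc, map_smul, ih,
          smul_smul, ← pow_succ']
    have hneg : c ^ 2 ^ (m - 1) = -1 := by
      refine smul_left_injective _ hv ?_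
      show c ^ 2 ^ (m - 1) • v = (-1 : ZMod r) • v
      rw [← hc2, ← pow_succ', show m - 1 + 1 = m by omega, ← Units.val_pow_eq_pow_val, hU, neg_one_smul]
    have hc0 : c ≠ 0 := fun h => by rw [h, zero_pow (by positivity)] at hneg; simp at hneg
    have hneg1 : (-1 : ZMod r) ≠ 1 := by
      intro h
      have h2 : ((2 : ℕ) : ZMod r) = 0 := by
        push_cast
        rw [← one_add_one_eq_two]
        nth_rewrite 1 [← h]
        simp
      rw [ZMod.natCast_eq_zero_iff] at h2
      have := Nat.le_of_dvd (by norm_num) h2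
      omega
    rcases Nat.lt_or_ge m 2 with hm2 | hm2
    · -- `r = 3`
      have : r = 3 := by
        have : m = 1 := by omega
        rw [this] at hrm; norm_num at hrm; omega
      subst this
      exact hℓ2 ((Nat.prime_dvd_prime_iff_eq hℓ Nat.prime_two).mp hℓdvd)
    · have h1 : c ^ (r - 1) = 1 := ZMod.pow_card_sub_one_eq_one hc0
      have h2 : c ^ 2 ^ m = 1 := by
        rw [show m = m - 1 + 1 by omega, pow_succ, pow_mul, hneg, neg_one_sq]
      have h3 : c ^ Nat.gcd (r - 1) (2 ^ m) = 1 := pow_gcd_eq_one.mpr ⟨h1, h2⟩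
      obtain ⟨j, hj, hg⟩ := (Nat.dvd_prime_pow Nat.prime_two).mp (Nat.gcd_dvd_right (r - 1) (2 ^ m))
      have hj1 : j ≤ 1 := by
        by_contra hjc
        have h4 : 2 ^ 2 ∣ r - 1 := (pow_dvd_pow 2 (by omega : 2 ≤ j)).trans (hg ▸ Nat.gcd_dvd_left _ _)
        have h5 : 2 ^ 2 ∣ r + 1 := hrm ▸ pow_dvd_pow 2 (by omega)
        norm_num at h4 h5
        omega
      rw [hg] at h3
      have h6 : c ^ 2 ^ (m - 1) = 1 := by
        obtain ⟨i, hi⟩ := pow_dvd_pow 2 (show j ≤ m - 1 by omega)
        rw [hi, pow_mul, h3, one_pow]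
      exact hneg1 (hneg.symm.trans h6)

theorem plane_aux {r m : ℕ} [hr : Fact r.Prime] (hm : 1 ≤ m) (hrm : r + 1 = 2 ^ (m + 1))
    {E : Type u} [CommGroup E] [Finite E] [Module (ZMod r) (Additive E)] (hexp : ∀ e : E, e ^ r = 1) (hcard : Nat.card E = r ^ 2)
    {K : Type*} [Field K] (B : E → E → K) (hBl : ∀ a b c, B (a * b) c = B a c * B b c)
    (hBr : ∀ a b c, B a (b * c) = B a b * B a c) (hBnd : ∀ a, (∀ b, B a b = 1) → a = 1)
    (hBz : ∀ a, B a 1 = 1) (u ω : MulAut E) (hu : ∀ e, (u ^ 2 ^ m) e = e⁻¹) (hcomm : Commute (u * ω * u⁻¹) ω)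
    (hpres : ∀ a b, B (ω a) (ω b) = B a b) {k : ℕ} (hk : Odd k) (hkr : k.Coprime r) (hω : ω ^ k = 1) :
    ω = 1 := by
  classical
  haveI : Module.Finite (ZMod r) (Additive E) := Module.Finite.of_finite
  let T : MulAut E →* Module.End (ZMod r) (Additive E) :=
    { toFun := fun f => AddMonoidHom.toZModLinearMap r (MonoidHom.toAdditive f.toMonoidHom)
      map_one' := by ext e; rfl
      map_mul' := fun f g => by ext e; rfl }
  have hT : Function.Injective T := fun f g h => MulEquiv.ext fun e =>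
    congrArg (fun φ : Module.End (ZMod r) (Additive E) => (φ (Additive.ofMul e)).toMul) h
  have hdim : finrank (ZMod r) (Additive E) = 2 := by
    have h := Module.natCard_eq_pow_finrank (K := ZMod r) (V := Additive E)
    rw [Nat.card_zmod, ← Nat.card_congr Additive.ofMul, hcard] at h
    exact (Nat.pow_right_injective hr.out.two_le h).symm
  by_contra hω1
  obtain ⟨ℓ, hℓ, hℓdvd⟩ := Nat.exists_prime_and_dvd (mt orderOf_eq_one_iff.mp hω1)
  have hℓk : ℓ ∣ k := hℓdvd.trans (orderOf_dvd_of_pow_eq_one hω)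
  have hℓ2 : ℓ ≠ 2 := by
    rintro rfl
    exact absurd hℓk (Nat.two_dvd_ne_zero.mpr (Nat.odd_iff.mp hk))
  have hℓr : ℓ ≠ r := by
    rintro rfl
    exact hℓ.not_dvd_one (hkr ▸ Nat.dvd_gcd hℓk dvd_rfl)
  set i := orderOf ω / ℓ with hi
  have hord : orderOf (ω ^ i) = ℓ := by
    rw [orderOf_pow_of_dvd (Nat.div_ne_zero_iff.mpr ⟨hℓ.ne_zero, Nat.le_of_dvd (orderOf_pos ω) hℓdvd⟩)
      (Nat.div_dvd_of_dvd hℓdvd), Nat.div_div_self hℓdvd (orderOf_pos ω).ne']
  have hpres' : ∀ (j : ℕ) a b, B ((ω ^ j) a) ((ω ^ j) b) = B a b := by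
    intro j
    induction j with
    | zero => intro a b; rfl
    | succ j ih => intro a b; rw [pow_succ, MulAut.mul_apply, MulAut.mul_apply, ih, hpres]
  have h := plane_linear (ℓ := ℓ) hm hrm (E := Additive E) hdim (fun a b => B a.toMul b.toMul)
    (fun a b c => hBl _ _ _) (fun a b c => hBr _ _ _) (fun a ha => hBnd _ fun b => ha (Additive.ofMul b))
    (fun a => hBz _) (T.toHomUnits u) (T.toHomUnits (ω ^ i))
    (fun e => by
      rw [← map_pow]
      exact congrArg Additive.ofMul (hu e.toMul))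
    hℓ hℓ2 hℓr
    (by rw [← map_pow, ← hord, pow_orderOf_eq_one, map_one])
    (by
      rw [← map_inv, ← map_mul, ← map_mul]
      refine Commute.map ?_ _
      rw [show u * ω ^ i * u⁻¹ = (u * ω * u⁻¹) ^ i by rw [conj_pow]]
      exact hcomm.pow_pow _ _)
    (fun a b => hpres' i a.toMul b.toMul)
  have h1 : ω ^ i = 1 := hT ((congrArg Units.val h).trans (map_one T).symm)
  rw [h1, orderOf_one] at hord
  exact hℓ.one_lt.ne hord

/-- The plane lemma. -/
theorem plane {r m : ℕ} [hr : Fact r.Prime] (hm : 1 ≤ m) (hrm : r + 1 = 2 ^ (m + 1))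
    {E : Type u} [CommGroup E] [Finite E] (hexp : ∀ e : E, e ^ r = 1) (hcard : Nat.card E = r ^ 2)
    {K : Type*} [Field K] (B : E → E → K) (hBl : ∀ a b c, B (a * b) c = B a c * B b c)
    (hBr : ∀ a b c, B a (b * c) = B a b * B a c) (hBnd : ∀ a, (∀ b, B a b = 1) → a = 1)
    (hBz : ∀ a, B a 1 = 1) (u ω : MulAut E) (hu : ∀ e, (u ^ 2 ^ m) e = e⁻¹) (hcomm : Commute (u * ω * u⁻¹) ω)
    (hpres : ∀ a b, B (ω a) (ω b) = B a b) {k : ℕ} (hk : Odd k) (hkr : k.Coprime r) (hω : ω ^ k = 1) :
    ω = 1 := by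
  haveI : Module (ZMod r) (Additive E) := AddCommGroup.zmodModule fun e => by
    apply Additive.toMul.injective
    rw [toMul_nsmul, hexp, toMul_zero]
  exact plane_aux hm hrm hexp hcard B hBl hBr hBnd hBz u ω hu hcomm hpres hk hkr hω

end H1.Gross
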