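import Cfsg.Agent.H1.Shult.KeyLemma
import Cfsg.Agent.S3764

/-!
General lemmas for Gross's theorem: characters fixed by the element of order two, orbit reduction,
generation by displacements, representations of elementary abelian groups.
-/

set_option autoImplicit false
set_option linter.style.haveILetI false

namespace H1.Gross

open Module Subgroup
open H28 (FPF)
open H1.Shult

universe u v w

variable {K : Type v} [Field K] {V : Type w} [AddCommGroup V] [Module K V]

/-- An eigenvector with vanishing norm has a character fixed by `σ ^ (p ^ n)`. -/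
theorem char_fixed {A : Type u} [Group A] (ρ : A → Module.End K V) {p n : ℕ} (hp : p.Prime) (σ : MulAut A)
    (hσ : σ ^ (p ^ (n + 1)) = 1) (S : Module.End K V) (hcomp : ∀ a, S * ρ a = ρ (σ a) * S) (y : V)
    (hy0 : y ≠ 0) (χ : A → K) (hy : ∀ a, ρ a y = χ a • y)
    (hsum : ∑ i ∈ Finset.range (p ^ (n + 1)), (S ^ i) y = 0) (a : A) : χ ((σ ^ (p ^ n)) a) = χ a := by
  by_contra hne
  refine hy0 (eq_zero_of_orbit_sum ρ σ S hcomp (pow_pos hp.pos _) y χ hy (fun d hd0 hd heq => hne ?_) hsum)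
  have hper : Function.IsPeriodicPt (fun ψ : A → K => ψ ∘ σ) (p ^ n) χ := by
    refine periodicPt_pred hp ?_ ?_ hd0 hd
    · show _ = χ
      rw [comp_iterate, hσ]; rfl
    · show _ = χ
      rw [comp_iterate]; exact heq
  exact congrFun ((comp_iterate σ χ _).symm.trans hper) a

/-- Reduction to the stabiliser of a character. -/
theorem orbit_reduce {A : Type u} [Group A] (ρ : A → Module.End K V) {p n : ℕ} (hp : p.Prime) (σ : MulAut A)
    (S : Module.End K V) (hcomp : ∀ a, S * ρ a = ρ (σ a) * S) (χ : A → K)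
    (hfix : ∀ a, χ ((σ ^ (p ^ n)) a) = χ a)
    (hsum : ∀ y, (∀ a, ρ a y = χ a • y) → ∑ i ∈ Finset.range (p ^ (n + 1)), (S ^ i) y = 0) :
    ∃ k ≤ n, (∀ a, χ ((σ ^ (p ^ k)) a) = χ a) ∧
      (∀ y, (∀ a, ρ a y = χ a • y) → ∀ a, ρ a ((S ^ (p ^ k)) y) = χ a • (S ^ (p ^ k)) y) ∧
      ∀ y, (∀ a, ρ a y = χ a • y) → ∑ l ∈ Finset.range (p ^ (n - k + 1)), ((S ^ (p ^ k)) ^ l) y = 0 := by
  have hFn : Function.IsPeriodicPt (fun ψ : A → K => ψ ∘ σ) (p ^ n) χ := by
    show _ = χ
    rw [comp_iterate]; exact funext hfix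
  obtain ⟨k, hkn, hPk⟩ := (Nat.dvd_prime_pow hp).mp hFn.minimalPeriod_dvd
  have hχP : ∀ a, χ ((σ ^ (p ^ k)) a) = χ a := fun a => by
    have h := Function.isPeriodicPt_minimalPeriod (fun ψ : A → K => ψ ∘ σ) χ
    rw [hPk] at h
    exact congrFun ((comp_iterate σ χ _).symm.trans h) a
  have hpow : ∀ y, (∀ a, ρ a y = χ a • y) → ∀ a, ρ a ((S ^ (p ^ k)) y) = χ a • (S ^ (p ^ k)) y := by
    intro y hy a
    obtain ⟨b, rfl⟩ := (σ ^ (p ^ k)).surjective a
    rw [← Module.End.mul_apply, ← pow_compat ρ σ S hcomp, Module.End.mul_apply, hy, map_smul, hχP]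
  refine ⟨k, hkn, hχP, hpow, fun y hy => ?_⟩
  have hy' : ∀ a, ρ a (∑ l ∈ Finset.range (p ^ (n - k + 1)), ((S ^ (p ^ k)) ^ l) y) =
      χ a • ∑ l ∈ Finset.range (p ^ (n - k + 1)), ((S ^ (p ^ k)) ^ l) y := by
    have hl : ∀ l : ℕ, ∀ a, ρ a (((S ^ (p ^ k)) ^ l) y) = χ a • ((S ^ (p ^ k)) ^ l) y := by
      intro l
      induction l with
      | zero => exact hy
      | succ l ih =>
        intro a
        rw [pow_succ', Module.End.mul_apply]
        exact hpow _ ih a
    intro a
    rw [map_sum, Finset.smul_sum]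
    exact Finset.sum_congr rfl fun l _ => hl l a
  refine eq_zero_of_orbit_sum ρ σ S hcomp (pow_pos hp.pos k) _ χ hy' (fun d hd0 hd h => ?_) ?_
  · have : Function.IsPeriodicPt (fun ψ : A → K => ψ ∘ σ) d χ := (comp_iterate σ χ d).trans h
    exact absurd (this.minimalPeriod_le hd0) (by omega)
  · have h := hsum y hy
    rw [show p ^ (n + 1) = p ^ k * p ^ (n - k + 1) by rw [← pow_add]; congr 1; omega, sum_range_mul',
      Finset.sum_comm] at h
    refine Eq.trans (Finset.sum_congr rfl fun j _ => ?_) h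
    rw [map_sum]
    exact Finset.sum_congr rfl fun l _ => by
      rw [← pow_mul, ← Module.End.mul_apply, ← pow_add, add_comm]

/-- Commuting operators with vanishing norm: `σ ^ (p ^ n)` fixes the image. -/
theorem image_fixed [IsAlgClosed K] [FiniteDimensional K V] {A : Type u} [Group A] [Finite A]
    {q : ℕ} [Fact q.Prime] (hA : IsPGroup q A) (hq : (q : K) ≠ 0) {p n : ℕ} (hp : p.Prime) (σ : MulAut A)
    (hσ : σ ^ (p ^ (n + 1)) = 1) (ρ : A →* Module.End K V) (hcomm : ∀ a b, ρ a * ρ b = ρ b * ρ a)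
    (S : Module.End K V) (hcomp : ∀ a, S * ρ a = ρ (σ a) * S)
    (hsum : ∀ v, ∑ i ∈ Finset.range (p ^ (n + 1)), (S ^ i) v = 0) (a : A) :
    ρ ((σ ^ (p ^ n)) a) = ρ a := by
  have h1 : ρ (a⁻¹ * (σ ^ (p ^ n)) a) = 1 := by
    rw [← one_smul K (1 : Module.End K V)]
    refine eq_smul_of_eigen ρ hcomm _ (natCast_orderOf_ne_zero hA hq _) 1 fun v hv χ hχ => ?_
    have hmul : ∀ b c, χ (b * c) = χ b * χ c := by
      intro b c
      refine smul_left_injective K hv ?_
      show χ (b * c) • v = (χ b * χ c) • v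
      rw [← hχ, map_mul, Module.End.mul_apply, hχ c, map_smul, hχ b, smul_smul, mul_comm]
    have h1 : χ 1 = 1 := by
      refine smul_left_injective K hv ?_
      show χ 1 • v = (1 : K) • v
      rw [← hχ, map_one, Module.End.one_apply, one_smul]
    rw [hmul, char_fixed ρ hp σ hσ S hcomp v hv χ hχ (hsum v), ← hmul, inv_mul_cancel, h1]
  calc ρ ((σ ^ (p ^ n)) a) = ρ (a * (a⁻¹ * (σ ^ (p ^ n)) a)) := by rw [mul_inv_cancel_left]
    _ = ρ a := by rw [map_mul, h1, mul_one]

/-- An automorphism of order prime to `|R|` fixing its own displacements is trivial. -/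
theorem eq_of_disp_fixed {R : Type u} [Group R] [Finite R] (f : MulAut R) {k : ℕ} (hk : f ^ k = 1)
    (hcop : k.Coprime (Nat.card R)) (x : R) (hfix : f (x⁻¹ * f x) = x⁻¹ * f x) : f x = x := by
  set c := x⁻¹ * f x with hc
  have hit : ∀ i : ℕ, (f ^ i) x = x * c ^ i := by
    intro i
    induction i with
    | zero => simp
    | succ i ih =>
      rw [pow_succ', MulAut.mul_apply, ih, map_mul, map_pow, hfix, pow_succ', ← mul_assoc, hc,
        mul_inv_cancel_left]
  have h1 : c ^ k = 1 := by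
    have h := hit k
    rw [hk, MulAut.one_apply] at h
    exact (mul_eq_left.mp h.symm)
  have h2 := pow_gcd_eq_one.mpr ⟨h1, pow_card_eq_one' (x := c)⟩
  rw [hcop, pow_one] at h2
  exact (inv_mul_eq_one.mp h2).symm

/-- A normal subgroup fixed by automorphisms whose displacements generate is central. -/
theorem le_center_of_fixed {R : Type u} [Group R] {ι : Type*} (F : ι → MulAut R)
    (hgen : closure (Set.range fun x : ι × R => x.2⁻¹ * F x.1 x.2) = ⊤) (M : Subgroup R) (hM : M.Normal)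
    (hfix : ∀ i, ∀ x ∈ M, F i x = x) : M ≤ center R := by
  intro f hf
  rw [Subgroup.mem_center_iff]
  have hle : closure (Set.range fun x : ι × R => x.2⁻¹ * F x.1 x.2) ≤ centralizer {f} := by
    rw [closure_le]
    rintro _ ⟨⟨i, a⟩, rfl⟩
    rw [SetLike.mem_coe, Subgroup.mem_centralizer_singleton_iff]
    have h1 : F i (a * f * a⁻¹) = a * f * a⁻¹ := hfix i _ (hM.conj_mem f hf a)
    rw [map_mul, map_mul, map_inv, hfix i f hf] at h1
    calc a⁻¹ * F i a * f = a⁻¹ * (F i a * f * (F i a)⁻¹) * F i a := by group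
      _ = a⁻¹ * (a * f * a⁻¹) * F i a := by rw [h1]
      _ = f * (a⁻¹ * F i a) := by group
  intro g
  exact Subgroup.mem_centralizer_singleton_iff.mp (hle (hgen ▸ Subgroup.mem_top g))

/-- The automorphism induced on a quotient, as a homomorphism on a group of operators. -/
noncomputable def quotHom {A : Type*} [Group A] {R : Type u} [Group R] [Finite R] (φ : A →* MulAut R)
    (N : Subgroup R) [N.Normal] (hN : ∀ a, ∀ x ∈ N, φ a x ∈ N) : A →* MulAut (R ⧸ N) where
  toFun a := H28.quotAut (φ a) N (hN a)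
  map_one' := MulEquiv.ext fun y => by
    obtain ⟨g, rfl⟩ := QuotientGroup.mk_surjective y
    rw [H28.quotAut_mk, map_one]; rfl
  map_mul' a b := MulEquiv.ext fun y => by
    obtain ⟨g, rfl⟩ := QuotientGroup.mk_surjective y
    rw [H28.quotAut_mk, map_mul, MulAut.mul_apply, MulAut.mul_apply, H28.quotAut_mk, H28.quotAut_mk]

theorem quotHom_mk {A : Type*} [Group A] {R : Type u} [Group R] [Finite R] (φ : A →* MulAut R)
    (N : Subgroup R) [N.Normal] (hN : ∀ a, ∀ x ∈ N, φ a x ∈ N) (a : A) (x : R) :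
    quotHom φ N hN a (QuotientGroup.mk x) = QuotientGroup.mk (φ a x) := rfl

/-- Representation of the automorphisms of an elementary abelian group over an algebraically closed field. -/
theorem exists_autRep {E : Type u} [CommGroup E] [Finite E] {r : ℕ} [Fact r.Prime]
    (hexp : ∀ e : E, e ^ r = 1) :
    ∃ (m : ℕ) (T : MulAut E →* Module.End (AlgebraicClosure (ZMod r)) (Fin m → AlgebraicClosure (ZMod r))),
      Function.Injective T ∧ ∀ f, (∀ e, f e = e → e = 1) → ∀ v, T f v = v → v = 0 := by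
  let act : MulAut E →* AddMonoid.End (Additive E) :=
    { toFun := fun f => MonoidHom.toAdditive f.toMonoidHom
      map_one' := AddMonoidHom.ext fun _ => rfl
      map_mul' := fun _ _ => AddMonoidHom.ext fun _ => rfl }
  obtain ⟨m, T, hT, hfix⟩ := Cfsg.Agent.S3764.exists_rep_aux (p := r) (A := Additive E)
    (fun a => by
      apply Additive.toMul.injective
      rw [toMul_nsmul, hexp, toMul_zero])
    act
  refine ⟨m, T, ?_, fun f hf => hfix f fun v hv => ?_⟩
  · rw [← MonoidHom.ker_eq_bot_iff, eq_bot_iff]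
    intro f hf
    rw [Subgroup.mem_bot]
    refine MulEquiv.ext fun e => ?_
    exact congrArg (fun φ : AddMonoid.End (Additive E) => (φ (Additive.ofMul e)).toMul) (hT f (MonoidHom.mem_ker.mp hf))
  · apply Additive.toMul.injective
    exact hf _ (congrArg Additive.toMul hv)

theorem sum_pow_eq_zero (S : Module.End K V) {N : ℕ} (hS : S ^ N = 1) (hfix : ∀ v, S v = v → v = 0)
    (v : V) : ∑ i ∈ Finset.range N, (S ^ i) v = 0 := by
  refine hfix _ ?_
  have h1 := (Finset.sum_range_succ (fun i => (S ^ i) v) N).symm.trans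
    (Finset.sum_range_succ' (fun i => (S ^ i) v) N)
  rw [hS, pow_zero] at h1
  rw [map_sum]
  refine Eq.trans (Finset.sum_congr rfl fun i _ => ?_) (add_right_cancel h1).symm
  rw [← Module.End.mul_apply, ← pow_succ']

/-- A prime power which is one less than a power of two is prime. -/
theorem mersenne {q e k : ℕ} (hq : 3 ≤ q) (hodd : Odd q) (he : 1 ≤ e) (h : q ^ e + 1 = 2 ^ k) : e = 1 := by
  have hk : 2 ≤ k := by
    by_contra hlt
    have h1 : 2 ^ k ≤ 2 := by
      calc 2 ^ k ≤ 2 ^ 1 := Nat.pow_le_pow_right (by norm_num) (by omega)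
        _ = 2 := rfl
    have : 3 ≤ q ^ e := hq.trans (Nat.le_self_pow (by omega) q)
    omega
  rcases Nat.even_or_odd e with ⟨j, hj⟩ | ⟨j, hj⟩
  · exfalso
    obtain ⟨c, hc⟩ := hodd.pow (n := j)
    have h4 : 4 ∣ q ^ e + 1 := h ▸ (pow_dvd_pow 2 hk)
    rw [hj, pow_add, hc] at h4
    rw [show (2 * c + 1) * (2 * c + 1) + 1 = 4 * (c * c + c) + 2 by ring] at h4
    omega
  · have hfac : ∀ j : ℕ, ∃ c, Odd c ∧ q ^ (2 * j + 1) + 1 = (q + 1) * c := by
      intro j
      induction j with
      | zero => exact ⟨1, odd_one, by simp⟩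
      | succ j ih =>
        obtain ⟨c, hc, hce⟩ := ih
        obtain ⟨q', rfl⟩ : ∃ q', q = q' + 1 := ⟨q - 1, by omega⟩
        have hqe : Even q' := by
          rcases hodd with ⟨i, hi⟩; exact ⟨i, by omega⟩
        have hbig : q' ≤ (q' + 1) ^ 2 * c := by
          have : 1 ≤ c := by rcases hc with ⟨i, hi⟩; omega
          nlinarith
        refine ⟨(q' + 1) ^ 2 * c - q', Nat.Odd.sub_even hbig ((hodd.pow).mul hc) hqe, ?_⟩
        have h2 : ((q' + 1) ^ 2 * c - q') + q' = (q' + 1) ^ 2 * c := Nat.sub_add_cancel hbig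
        have h3 : (q' + 1) ^ (2 * (j + 1) + 1) = (q' + 1) ^ 2 * (q' + 1) ^ (2 * j + 1) := by
          rw [← pow_add]; congr 1; omega
        nlinarith [h3, hce, h2]
    obtain ⟨c, hc, hce⟩ := hfac j
    rw [← hj, h] at hce
    have hcd : c ∣ 2 ^ k := ⟨q + 1, by rw [hce, mul_comm]⟩
    obtain ⟨i, -, hi⟩ := (Nat.dvd_prime_pow Nat.prime_two).mp hcd
    have hc1 : c = 1 := by
      rcases Nat.eq_zero_or_pos i with h0 | h0
      · rw [hi, h0, pow_zero]
      · exfalso
        rw [hi, Nat.odd_pow_iff (by omega)] at hc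
        exact absurd hc (by decide)
    rw [hc1, mul_one] at hce
    exact (Nat.pow_eq_self_iff (by omega : 1 < q)).mp (by omega)

end H1.Gross
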