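import Cfsg.Agent.H1.Gross.Prelim
import Cfsg.Agent.H1.Gross.Plane
import Cfsg.Agent.H1.Shult.CyclicHH2

/-!
The step over one central character in the configuration behind Gross's theorem: an `s`-group `A` acts on a `q`-group `R`, which acts on a module;
a fixed-point-free `σ` of order dividing `2 ^ (n + 1)` acts on everything. Then `σ ^ (2 ^ n)` is trivial on
the image of `A`.
-/

set_option autoImplicit false
set_option linter.style.haveILetI false

namespace H1.Gross

open Module Subgroup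
open H28 (FPF)
open H1.Shult

universe u v w

variable {K : Type v} [Field K] [IsAlgClosed K] {V : Type w} [AddCommGroup V] [Module K V]
  [FiniteDimensional K V]

/-- The step over one character of the centre. -/
theorem radical_step {A : Type u} [Group A] [Finite A] {R : Type u} [Group R] [Finite R]
    {s q n : ℕ} [hsf : Fact s.Prime] [hqf : Fact q.Prime] (hA : IsPGroup s A) (hR : IsPGroup q R)
    (hs2 : s ≠ 2) (hq2 : q ≠ 2) (hsq : s ≠ q) (hK2 : (2 : K) ≠ 0) (hqK : (q : K) ≠ 0)
    (σA : MulAut A) (σR : MulAut R) (hσR : σR ^ (2 ^ (n + 1)) = 1) (φ : A →* MulAut R)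
    (hcompA : ∀ a r, σR (φ a r) = φ (σA a) (σR r))
    (hgenA : closure (Set.range fun a : A => a⁻¹ * (σA ^ (2 ^ n)) a) = ⊤)
    (hcls : ∀ x y : R, x * y * x⁻¹ * y⁻¹ ∈ center R) (hexpR : ∀ x : R, x ^ q ∈ center R)
    (hAZ : ∀ a, ∀ z ∈ center R, φ a z = z) (hτZ : ∀ z ∈ center R, (σR ^ (2 ^ n)) z = z)
    (ω : A) (hωc : ω ∈ center A) (hτω : (σA ^ (2 ^ n)) ω = ω)
    (ρ : R →* Module.End K V) (S : Module.End K V)
    (hS : S ^ (2 ^ (n + 1)) = 1) (hcomp : ∀ r, S * ρ r = ρ (σR r) * S)
    (hsum : ∀ v, ∑ i ∈ Finset.range (2 ^ (n + 1)), (S ^ i) v = 0)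
    (v : V) (hv : v ≠ 0) (χ : center R → K) (hχ : ∀ z : center R, ρ z v = χ z • v) (x y : R) :
    χ ⟨_, hcls (x⁻¹ * φ ω x) y⟩ = 1 := by
  classical
  set τ := σR ^ (2 ^ n) with hτdef
  let Z : Subgroup R := center R
  have hZc : ∀ z : Z, ∀ a : R, a * z = z * a := fun z a => Subgroup.mem_center_iff.mp z.2 a
  have hmul : ∀ b c, χ (b * c) = χ b * χ c := by
    intro b c
    refine smul_left_injective K hv ?_
    show χ (b * c) • v = (χ b * χ c) • v
    rw [← hχ, Subgroup.coe_mul, map_mul, Module.End.mul_apply, hχ c, map_smul, hχ b, smul_smul, mul_comm]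
  have hχ1 : χ 1 = 1 := by
    refine smul_left_injective K hv ?_
    show χ 1 • v = (1 : K) • v
    rw [← hχ, Subgroup.coe_one, map_one, Module.End.one_apply, one_smul]
  -- the pairing
  let β : R → R → K := fun a b => χ ⟨_, hcls a b⟩
  have hβl : ∀ a b c, β (a * b) c = β a c * β b c := by
    intro a b c
    show χ _ = χ _ * χ _
    rw [← hmul]
    congr 1
    apply Subtype.ext
    show a * b * c * (a * b)⁻¹ * c⁻¹ = (a * c * a⁻¹ * c⁻¹) * (b * c * b⁻¹ * c⁻¹)
    have h := Subgroup.mem_center_iff.mp (hcls b c) a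
    calc a * b * c * (a * b)⁻¹ * c⁻¹ = (a * (b * c * b⁻¹ * c⁻¹)) * c * a⁻¹ * c⁻¹ := by group
      _ = (b * c * b⁻¹ * c⁻¹) * (a * c * a⁻¹ * c⁻¹) := by rw [h]; group
      _ = _ := (Subgroup.mem_center_iff.mp (hcls b c) _).symm
  have hβswap : ∀ a b, β a b * β b a = 1 := by
    intro a b
    show χ _ * χ _ = 1
    rw [← hmul, ← hχ1]
    congr 1
    apply Subtype.ext
    show (a * b * a⁻¹ * b⁻¹) * (b * a * b⁻¹ * a⁻¹) = 1
    group
  have hβne : ∀ a b, β a b ≠ 0 := fun a b h => by
    have := hβswap a b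
    rw [h, zero_mul] at this
    exact zero_ne_one this
  have hβr : ∀ a b c, β a (b * c) = β a b * β a c := by
    intro a b c
    have h1 : β (b * c) a * β a (b * c) = 1 := hβswap _ _
    rw [hβl] at h1
    have h2 : (β b a * β c a) * (β a b * β a c) = 1 := by
      calc (β b a * β c a) * (β a b * β a c) = (β b a * β a b) * (β c a * β a c) := by ring
        _ = 1 := by rw [hβswap, hβswap, one_mul]
    exact mul_left_cancel₀ (mul_ne_zero (hβne _ _) (hβne _ _)) (h1.trans h2.symm)
  have hβ1 : ∀ b, β 1 b = 1 := fun b => by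
    have h := hβl 1 1 b
    rw [mul_one] at h
    exact mul_left_cancel₀ (hβne 1 b) (by rw [mul_one]; exact h.symm)
  have hβ1' : ∀ a, β a 1 = 1 := fun a => by
    have h := hβswap a 1
    rwa [hβ1, mul_one] at h
  have hβinvl : ∀ a b, β a⁻¹ b * β a b = 1 := fun a b => by rw [← hβl, inv_mul_cancel, hβ1]
  have hβinvr : ∀ a b, β a b⁻¹ * β a b = 1 := fun a b => by rw [← hβr, inv_mul_cancel, hβ1']
  have hβφ : ∀ a x' y', β (φ a x') (φ a y') = β x' y' := by
    intro a x' y'
    show χ _ = χ _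
    congr 1
    apply Subtype.ext
    have h := hAZ a _ (hcls x' y')
    simp only [map_mul, map_inv] at h
    exact h
  have hβτ : ∀ x' y', β (τ x') (τ y') = β x' y' := by
    intro x' y'
    show χ _ = χ _
    congr 1
    apply Subtype.ext
    have h := hτZ _ (hcls x' y')
    simp only [map_mul, map_inv] at h
    exact h
  -- the radical
  let M : Subgroup R :=
    { carrier := {a | ∀ b, β a b = 1}
      one_mem' := hβ1
      mul_mem' := fun {a b} ha hb c => by rw [hβl, ha c, hb c, one_mul]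
      inv_mem' := fun {a} ha c => by
        have := hβinvl a c
        rwa [ha c, mul_one] at this }
  have hZM : Z ≤ M := fun z hz b => by
    show χ _ = 1
    rw [← hχ1]
    congr 1
    apply Subtype.ext
    show z * b * z⁻¹ * b⁻¹ = 1
    rw [← Subgroup.mem_center_iff.mp hz b]; group
  haveI hMn : M.Normal := ⟨fun a ha g => by
    have : g * a * g⁻¹ = (g * a * g⁻¹ * a⁻¹) * a := by group
    rw [this]; exact M.mul_mem (hZM (hcls g a)) ha⟩
  have hMA : ∀ a, ∀ m ∈ M, φ a m ∈ M := fun a m hm b => by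
    obtain ⟨b', rfl⟩ := (φ a).surjective b
    rw [hβφ]; exact hm b'
  have hτM : ∀ m ∈ M, τ m ∈ M := fun m hm b => by
    obtain ⟨b', rfl⟩ := τ.surjective b
    rw [hβτ]; exact hm b'
  -- the quotient
  let E := R ⧸ M
  have hEc : ∀ a b : E, a * b = b * a := by
    intro a b
    obtain ⟨a, rfl⟩ := QuotientGroup.mk_surjective a
    obtain ⟨b, rfl⟩ := QuotientGroup.mk_surjective b
    refine (QuotientGroup.eq.mpr ?_ : (QuotientGroup.mk (a * b) : E) = QuotientGroup.mk (b * a))
    have h := hZM (hcls b⁻¹ a⁻¹)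
    simpa [mul_assoc] using h
  letI : CommGroup E := { (inferInstance : Group E) with mul_comm := hEc }
  have hEexp : ∀ e : E, e ^ q = 1 := by
    intro e
    obtain ⟨a, rfl⟩ := QuotientGroup.mk_surjective e
    exact (QuotientGroup.eq_one_iff (a ^ q)).mpr (hZM (hexpR a))
  obtain ⟨h, hh⟩ : ∃ h, q = 2 * h + 1 := by
    obtain ⟨h, hh⟩ := hqf.out.odd_of_ne_two hq2; exact ⟨h, hh⟩
  have hsqrt : ∀ e : E, (e ^ 2) ^ (h + 1) = e := fun e => by
    rw [← pow_mul, show 2 * (h + 1) = q + 1 by omega, pow_succ, hEexp, one_mul]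
  let τE : MulAut E := H28.quotAut τ M hτM
  have hτ2 : ∀ a, τ (τ a) = a := fun a => by
    rw [← MulAut.mul_apply, hτdef, ← pow_add, ← two_mul, ← pow_succ', hσR]; rfl
  have hτE2 : ∀ e, τE (τE e) = e := by
    intro e
    obtain ⟨a, rfl⟩ := QuotientGroup.mk_surjective e
    show QuotientGroup.mk (τ (τ a)) = _
    rw [hτ2]
  let φE : A →* MulAut E := quotHom φ M hMA
  have hτφ : ∀ a r, τ (φ a r) = φ ((σA ^ (2 ^ n)) a) (τ r) := by
    have : ∀ (i : ℕ) a r, (σR ^ i) (φ a r) = φ ((σA ^ i) a) ((σR ^ i) r) := by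
      intro i
      induction i with
      | zero => intro a r; rfl
      | succ i ih =>
        intro a r
        rw [pow_succ', pow_succ', MulAut.mul_apply, MulAut.mul_apply, MulAut.mul_apply, ih, hcompA]
    exact this _
  have hτφE : ∀ a e, τE (φE a e) = φE ((σA ^ (2 ^ n)) a) (τE e) := by
    intro a e
    obtain ⟨r, rfl⟩ := QuotientGroup.mk_surjective e
    show QuotientGroup.mk (τ (φ a r)) = QuotientGroup.mk (φ _ (τ r))
    rw [hτφ]
  let E2 : Subgroup E :=
    { carrier := {e | τE e = e⁻¹}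
      one_mem' := by simp
      mul_mem' := fun {a b} ha hb => by
        show τE (a * b) = (a * b)⁻¹
        rw [map_mul, ha, hb, mul_inv]
      inv_mem' := fun {a} ha => by
        show τE a⁻¹ = a⁻¹⁻¹
        rw [map_inv, ha] }
  have hsplit : ∀ e : E, ∃ e₁ e₂, τE e₁ = e₁ ∧ e₂ ∈ E2 ∧ e = e₁ * e₂ := by
    intro e
    refine ⟨(e * τE e) ^ (h + 1), (e * (τE e)⁻¹) ^ (h + 1), ?_, ?_, ?_⟩
    · rw [map_pow, map_mul, hτE2, mul_comm]
    · show τE _ = _
      rw [map_pow, map_mul, map_inv, hτE2, ← inv_pow]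
      congr 1
      rw [mul_inv, inv_inv, mul_comm]
    · rw [← mul_pow, show e * τE e * (e * (τE e)⁻¹) = e ^ 2 by
        rw [mul_mul_mul_comm, mul_inv_cancel, mul_one, sq], hsqrt]
  -- `ω` is trivial on the inverted part
  have hωE2 : ∀ e ∈ E2, φE ω e = e := by
    by_cases hE2 : E2 = ⊥
    · intro e he
      rw [hE2, Subgroup.mem_bot] at he
      rw [he, map_one]
    -- stabilisers
    let σz : MulAut Z := H28.subAut σR Z (H28.char_apply_mem σR Z)
    have hσzpow : ∀ (i : ℕ) (z : Z), (((σz ^ i) z : Z) : R) = (σR ^ i) z :=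
      H28.subAut_pow_coe σR Z (H28.char_apply_mem σR Z)
    obtain ⟨k₁, hk₁, hχP, hpowχ, hsum1⟩ := orbit_reduce (n := n) (fun z : Z => ρ z) Nat.prime_two σz S
      (fun z => hcomp z) χ (fun z => congrArg χ (Subtype.ext ((hσzpow _ z).trans (hτZ z z.2))))
      (fun y _ => hsum y)
    set θ₁ := σR ^ (2 ^ k₁) with hθ₁
    set S₁ := S ^ (2 ^ k₁) with hS₁
    set n₁ := n - k₁ with hn₁
    have hθ₁M : ∀ m ∈ M, θ₁ m ∈ M := by
      intro m hm b
      obtain ⟨b', rfl⟩ := θ₁.surjective b
      refine Eq.trans ?_ ((hχP ⟨_, hcls m b'⟩).trans (hm b'))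
      show χ _ = χ _
      congr 1
      apply Subtype.ext
      rw [hσzpow]
      simp [hθ₁]
    let σM : MulAut M := H28.subAut θ₁ M hθ₁M
    have hσMpow : ∀ (i : ℕ) (m : M), (((σM ^ i) m : M) : R) = (θ₁ ^ i) m := H28.subAut_pow_coe θ₁ M hθ₁M
    let Wχ : Submodule K V :=
      { carrier := {w | ∀ z : Z, ρ z w = χ z • w}
        add_mem' := fun {a b} ha hb z => by rw [map_add, ha z, hb z, smul_add]
        zero_mem' := fun z => by rw [map_zero, smul_zero]
        smul_mem' := fun c a ha z => by rw [map_smul, ha z, smul_comm] }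
    have hWχR : ∀ a : R, ∀ w ∈ Wχ, ρ a w ∈ Wχ := fun a w hw z => by
      rw [← Module.End.mul_apply, ← map_mul, ← hZc z a, map_mul, Module.End.mul_apply, hw z, map_smul]
    have hswap : ∀ a b : R, ∀ w ∈ Wχ, ρ a (ρ b w) = β a b • ρ b (ρ a w) := by
      intro a b w hw
      calc ρ a (ρ b w) = ρ (a * b) w := by rw [map_mul]; rfl
        _ = ρ ((a * b * a⁻¹ * b⁻¹) * (b * a)) w := by rw [show (a * b * a⁻¹ * b⁻¹) * (b * a) = a * b by group]
        _ = ρ (a * b * a⁻¹ * b⁻¹) (ρ b (ρ a w)) := by rw [map_mul ρ _ (b * a), map_mul ρ b a]; rfl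
        _ = _ := hWχR b _ (hWχR a w hw) ⟨_, hcls a b⟩
    have hMcomm : ∀ a b : M, (ρ (a : R)).restrict (hWχR a) * (ρ (b : R)).restrict (hWχR b) =
        (ρ (b : R)).restrict (hWχR b) * (ρ (a : R)).restrict (hWχR a) := fun a b =>
      LinearMap.ext fun w => Subtype.ext (by
        show ρ (a : R) (ρ (b : R) (w : V)) = ρ (b : R) (ρ (a : R) (w : V))
        rw [hswap _ _ _ w.2, a.2, one_smul])
    haveI : Nontrivial Wχ := Submodule.nontrivial_iff_ne_bot.mpr ((Submodule.ne_bot_iff Wχ).mpr ⟨v, hχ, hv⟩)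
    obtain ⟨v', -, hv'0, hψ'⟩ := exists_eigen_mem (fun m : M => (ρ (m : R)).restrict (hWχR m)) hMcomm ⊤
      top_ne_bot (fun _ _ _ => Submodule.mem_top)
    choose ψ hψ0 using hψ'
    have hψ : ∀ m : M, ρ (m : R) (v' : V) = ψ m • (v' : V) := fun m => congrArg Subtype.val (hψ0 m)
    have hv'V : (v' : V) ≠ 0 := fun h' => hv'0 (Subtype.ext h')
    have hψχ : ∀ z : Z, ψ ⟨z, hZM z.2⟩ = χ z := fun z =>
      smul_left_injective K hv'V ((hψ ⟨z, hZM z.2⟩).symm.trans (v'.2 z))
    have hθτ : θ₁ ^ (2 ^ n₁) = τ := by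
      rw [hθ₁, ← pow_mul, ← pow_add, show k₁ + n₁ = n by omega]
    have hσMn : σM ^ (2 ^ (n₁ + 1)) = 1 := MulEquiv.ext fun m => Subtype.ext (by
      rw [hσMpow, hθ₁, ← pow_mul, ← pow_add, show k₁ + (n₁ + 1) = n + 1 by omega, hσR]; rfl)
    have hcompM : ∀ m : M, S₁ * ρ (m : R) = ρ ((σM m : M) : R) * S₁ := fun m =>
      pow_compat ρ σR S hcomp _ (m : R)
    obtain ⟨k₂, hk₂, hψP, hpowψ, hsum2⟩ := orbit_reduce (n := n₁) (fun m : M => ρ (m : R)) Nat.prime_two σM S₁
      hcompM ψ
      (fun m => char_fixed (fun m : M => ρ (m : R)) Nat.prime_two σM hσMn S₁ hcompM (v' : V) hv'V ψ hψ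
        (hsum1 _ fun z => v'.2 z) m)
      (fun y hy => hsum1 y fun z => by rw [← hψχ z]; exact hy ⟨z, hZM z.2⟩)
    set θ := θ₁ ^ (2 ^ k₂) with hθ
    set m₀ := n₁ - k₂ with hm₀
    set N := 2 ^ (m₀ + 1) with hN
    let W : Submodule K V :=
      { carrier := {w | ∀ m : M, ρ (m : R) w = ψ m • w}
        add_mem' := fun {a b} ha hb z => by rw [map_add, ha z, hb z, smul_add]
        zero_mem' := fun z => by rw [map_zero, smul_zero]
        smul_mem' := fun c a ha z => by rw [map_smul, ha z, smul_comm] }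
    have hWle : ∀ w ∈ W, w ∈ Wχ := fun w hw z => by rw [← hψχ z]; exact hw ⟨z, hZM z.2⟩
    have hWR : ∀ a : R, ∀ w ∈ W, ρ a w ∈ W := fun a w hw m => by
      rw [hswap _ _ _ (hWle w hw), m.2, one_smul, hw m, map_smul]
    haveI : Nontrivial W := Submodule.nontrivial_iff_ne_bot.mpr ((Submodule.ne_bot_iff W).mpr ⟨_, hψ, hv'V⟩)
    let ρW : R →* Module.End K W :=
      { toFun := fun a => (ρ a).restrict (hWR a)
        map_one' := LinearMap.ext fun w => Subtype.ext (by
          show ρ 1 (w : V) = _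
          rw [map_one]; rfl)
        map_mul' := fun a b => LinearMap.ext fun w => Subtype.ext (by
          show ρ (a * b) (w : V) = _
          rw [map_mul]; rfl) }
    have hρWM : ∀ m : M, ρW m = ψ m • (1 : Module.End K W) := fun m =>
      LinearMap.ext fun w => Subtype.ext (w.2 m)
    have hswapW : ∀ a b : R, ρW a * ρW b = β a b • (ρW b * ρW a) := fun a b =>
      LinearMap.ext fun w => Subtype.ext (hswap a b _ (hWle _ w.2))
    let R2 : Subgroup R := E2.comap (QuotientGroup.mk' M)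
    have hR2mem : ∀ a, a ∈ R2 ↔ (QuotientGroup.mk (τ a) : E) = (QuotientGroup.mk a : E)⁻¹ := fun a => Iff.rfl
    have hτθ : ∀ a, τ (θ a) = θ (τ a) := fun a => by
      rw [hθ, hθ₁, hτdef, ← pow_mul, ← MulAut.mul_apply, ← MulAut.mul_apply,
        ((Commute.refl σR).pow_pow _ _).eq]
    have hθM : ∀ m ∈ M, θ m ∈ M := fun m hm => by
      rw [hθ, ← hσMpow _ ⟨m, hm⟩]; exact SetLike.coe_mem _
    have hθR2 : ∀ a ∈ R2, θ a ∈ R2 := by
      intro a ha
      rw [hR2mem] at ha ⊢
      rw [hτθ]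
      exact (congrArg (H28.quotAut θ M hθM) ha).trans (map_inv (H28.quotAut θ M hθM) _)
    let θ2 : MulAut R2 := H28.subAut θ R2 hθR2
    have hθ2pow : ∀ (i : ℕ) (a : R2), (((θ2 ^ i) a : R2) : R) = (θ ^ i) a := H28.subAut_pow_coe θ R2 hθR2
    let ρ2 : R2 →* Module.End K W := ρW.comp R2.subtype
    let uW : Module.End K W := (S₁ ^ (2 ^ k₂)).restrict (fun w hw => hpowψ w hw)
    have huWpow : ∀ (l : ℕ) (w : W), (((uW ^ l) w : W) : V) = ((S₁ ^ (2 ^ k₂)) ^ l) w := by
      intro l
      induction l with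
      | zero => intro w; rfl
      | succ l ih =>
        intro w
        rw [pow_succ', Module.End.mul_apply, pow_succ', Module.End.mul_apply, ← ih]
        rfl
    have hN2 : θ ^ N = 1 := by
      rw [hθ, hθ₁, hN, ← pow_mul, ← pow_mul, ← pow_add, ← pow_add,
        show k₁ + (k₂ + (m₀ + 1)) = n + 1 by omega, hσR]
    have hθm : θ ^ (2 ^ m₀) = τ := by
      rw [hθ, ← pow_mul, ← pow_add, show k₂ + m₀ = n₁ by omega, hθτ]
    have huWN : uW ^ N = 1 := LinearMap.ext fun w => Subtype.ext (by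
      rw [huWpow, hS₁, hN, ← pow_mul, ← pow_mul, ← pow_add, ← pow_add,
        show k₁ + (k₂ + (m₀ + 1)) = n + 1 by omega, hS]; rfl)
    have hNK : (N : K) ≠ 0 := by rw [hN, Nat.cast_pow]; exact pow_ne_zero _ (by exact_mod_cast hK2)
    have hfixW : ∀ w, uW w = w → w = 0 := by
      intro w hw
      have h0 := hsum2 (w : V) w.2
      rw [Finset.sum_congr rfl (fun l _ => (huWpow l w).symm)] at h0
      have hl : ∀ l : ℕ, (uW ^ l) w = w := by
        intro l
        induction l with
        | zero => rfl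
        | succ l ih => rw [pow_succ, Module.End.mul_apply, hw, ih]
      rw [Finset.sum_congr rfl (fun l _ => congrArg Subtype.val (hl l)), Finset.sum_const, Finset.card_range,
        ← Nat.cast_smul_eq_nsmul K] at h0
      exact Subtype.ext ((smul_eq_zero.mp h0).resolve_left hNK)
    have hcompθ : ∀ a : R, uW * ρW a = ρW (θ a) * uW := fun a =>
      LinearMap.ext fun w => Subtype.ext (congrArg (fun f : Module.End K V => f (w : V))
        (pow_compat ρ θ₁ S₁ (fun b => pow_compat ρ σR S hcomp _ b) _ a))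
    let Kn : Subgroup R2 := ρ2.ker
    have huinj : ∀ f g : Module.End K W, f * uW = g * uW → f = g := by
      intro f g hfg
      have h' := congrArg (fun t => t * uW ^ (N - 1)) hfg
      rw [mul_assoc, mul_assoc, ← pow_succ', show N - 1 + 1 = N by
        have : 1 ≤ N := hN ▸ Nat.one_le_two_pow
        omega, huWN, mul_one, mul_one] at h'
      exact h'
    have hKn : ∀ a ∈ Kn, θ2 a ∈ Kn := by
      intro a ha
      rw [MonoidHom.mem_ker] at ha ⊢
      apply huinj
      show ρW (θ (a : R)) * uW = _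
      rw [← hcompθ, show ρW (a : R) = 1 from ha, mul_one, one_mul]
    let Qb := R2 ⧸ Kn
    let θb : MulAut Qb := H28.quotAut θ2 Kn hKn
    let ρb : Qb →* Module.End K W := QuotientGroup.lift Kn ρ2 le_rfl
    have hρbmk : ∀ a : R2, ρb (QuotientGroup.mk a) = ρW (a : R) := fun a => rfl
    have hρb : Function.Injective ρb := by
      intro a b hab
      obtain ⟨a, rfl⟩ := QuotientGroup.mk_surjective a
      obtain ⟨b, rfl⟩ := QuotientGroup.mk_surjective b
      rw [hρbmk, hρbmk] at hab
      refine QuotientGroup.eq.mpr (MonoidHom.mem_ker.mpr ?_)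
      show ρW ((a : R)⁻¹ * b) = 1
      rw [map_mul, ← hab, ← map_mul, inv_mul_cancel, map_one]
    obtain ⟨w₀, hw₀⟩ := exists_ne (0 : W)
    have hunitW : ∀ a, IsUnit (ρW a) := fun a => (Group.isUnit a).map ρW
    have hβ_of_comm : ∀ a b, ρW a * ρW b = ρW b * ρW a → β a b = 1 := by
      intro a b hab
      rw [hswapW] at hab
      exact smul_left_injective K ((hunitW b).mul (hunitW a)).ne_zero
        (hab.trans (one_smul K (ρW b * ρW a)).symm)
    -- the two parts are orthogonal
    have horth : ∀ a, a ∈ R2 → ∀ c, (QuotientGroup.mk (τ c) : E) = QuotientGroup.mk c → β a c = 1 := by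
      intro a ha c hc
      have hm : a * τ a ∈ M := by
        rw [← QuotientGroup.eq_one_iff, QuotientGroup.mk_mul, (hR2mem a).mp ha, mul_inv_cancel]
      have hcm : c⁻¹ * τ c ∈ M := QuotientGroup.eq.mp hc.symm
      have h1 : β (a * τ a) (τ c) = 1 := hm _
      have h2 : β a (c⁻¹ * τ c) = 1 := by
        have := hβswap a (c⁻¹ * τ c)
        rwa [hcm, mul_one] at this
      rw [hβl, hβτ] at h1
      rw [hβr] at h2
      have h3 : β a c ^ 2 = 1 := by
        have h4 : β a (τ c) = β a c := by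
          apply mul_left_cancel₀ (hβne a c⁻¹)
          rw [h2, hβinvr]
        rw [h4] at h1
        rw [sq]; exact h1
      obtain ⟨j, hj⟩ := (hR.to_subgroup Z) ⟨_, hcls a c⟩
      have h5 : β a c ^ (q ^ j) = 1 := by
        have : ∀ i : ℕ, ∀ z : Z, χ (z ^ i) = χ z ^ i := by
          intro i z
          induction i with
          | zero => rw [pow_zero, pow_zero, hχ1]
          | succ i ih => rw [pow_succ, pow_succ, hmul, ih]
        show χ _ ^ _ = 1
        rw [← this, hj, hχ1]
      have h6 := pow_gcd_eq_one.mpr ⟨h3, h5⟩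
      rwa [((Nat.coprime_primes Nat.prime_two hqf.out).mpr (Ne.symm hq2)).pow_right j, pow_one] at h6
    have hMof : ∀ a, a ∈ R2 → (∀ b ∈ R2, β a b = 1) → a ∈ M := by
      intro a ha hb c
      obtain ⟨e₁, e₂, he₁, he₂, he⟩ := hsplit (QuotientGroup.mk c)
      obtain ⟨c₁, rfl⟩ := QuotientGroup.mk_surjective e₁
      obtain ⟨c₂, rfl⟩ := QuotientGroup.mk_surjective e₂
      have hm : (c₁ * c₂)⁻¹ * c ∈ M := QuotientGroup.eq.mp he.symm
      rw [show c = c₁ * c₂ * ((c₁ * c₂)⁻¹ * c) by group, hβr, hβr, horth a ha c₁ he₁, hb c₂ he₂,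
        one_mul, one_mul]
      have := hβswap a ((c₁ * c₂)⁻¹ * c)
      rwa [hm, mul_one] at this
    have hcen : ∀ a : R2, (QuotientGroup.mk a : Qb) ∈ center Qb ↔ (a : R) ∈ M := by
      intro a
      rw [Subgroup.mem_center_iff]
      constructor
      · intro hc
        refine hMof _ a.2 fun b hb => hβ_of_comm _ _ ?_
        have := congrArg ρb (hc (QuotientGroup.mk ⟨b, hb⟩))
        rw [map_mul, map_mul, hρbmk, hρbmk] at this
        exact this.symm
      · intro hc y
        obtain ⟨b, rfl⟩ := QuotientGroup.mk_surjective y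
        apply hρb
        rw [map_mul, map_mul, hρbmk, hρbmk, hswapW (a : R) (b : R), hc, one_smul]
    have hθbit : ∀ (i : ℕ) (a : R2), (θb : Qb → Qb)^[i] (QuotientGroup.mk a) = QuotientGroup.mk ((θ2 ^ i) a) := by
      intro i a
      rw [← autPow_apply, H28.quotAut_pow_mk]
    obtain ⟨e₀, he₀, he₀1⟩ : ∃ e ∈ E2, e ≠ 1 := by
      by_contra hno
      push Not at hno
      exact hE2 ((Subgroup.eq_bot_iff_forall E2).mpr hno)
    obtain ⟨a₀, rfl⟩ := QuotientGroup.mk_surjective e₀
    obtain ⟨ζ, hζ⟩ : ∃ ζ : K, IsPrimitiveRoot ζ N := by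
      haveI : NeZero (N : K) := ⟨hNK⟩
      exact HasEnoughRootsOfUnity.exists_primitiveRoot K N
    have hHH := semiregularHH (Q := Qb) (N := N) (hN ▸ Nat.two_pow_pos _)
      (fun a b => by
        obtain ⟨a, rfl⟩ := QuotientGroup.mk_surjective a
        obtain ⟨b, rfl⟩ := QuotientGroup.mk_surjective b
        exact (hcen (a * b * a⁻¹ * b⁻¹)).mpr (hZM (hcls (a : R) b)))
      ⟨QuotientGroup.mk ⟨a₀, he₀⟩, fun hh' => he₀1 ((QuotientGroup.eq_one_iff a₀).mpr ((hcen _).mp hh'))⟩ θb
      (fun a => by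
        obtain ⟨a, rfl⟩ := QuotientGroup.mk_surjective a
        rw [hθbit]
        congr 1
        exact Subtype.ext ((hθ2pow _ a).trans (by rw [hN2]; rfl)))
      (fun a ha => by
        obtain ⟨a, rfl⟩ := QuotientGroup.mk_surjective a
        apply hρb
        show ρW (θ (a : R)) = ρW (a : R)
        apply huinj
        rw [← hcompθ, hρWM ⟨a, (hcen a).mp ha⟩, mul_smul_comm, smul_mul_assoc, one_mul, mul_one])
      (fun i hi0 hi a ha => by
        obtain ⟨a, rfl⟩ := QuotientGroup.mk_surjective a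
        rw [hθbit] at ha
        refine (hcen a).mpr ?_
        have hit : ∀ j : ℕ, (H28.quotAut θ M hθM : E → E)^[j] (QuotientGroup.mk (a : R)) =
            QuotientGroup.mk ((θ ^ j) (a : R)) := fun j => by rw [← autPow_apply, H28.quotAut_pow_mk]
        have hper : Function.IsPeriodicPt (H28.quotAut θ M hθM : E → E) (2 ^ m₀) (QuotientGroup.mk (a : R)) := by
          refine periodicPt_pred Nat.prime_two ?_ ?_ hi0 (hN ▸ hi)
          · show _ = _
            rw [hit, ← hN, hN2]; rfl
          · show _ = _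
            rw [hit]
            have hh' := (hcen _).mp ha
            rw [Subgroup.coe_mul, Subgroup.coe_inv, hθ2pow] at hh'
            exact (QuotientGroup.eq.mpr hh').symm
        have h2 : (QuotientGroup.mk ((θ ^ 2 ^ m₀) (a : R)) : E) = QuotientGroup.mk (a : R) := (hit _).symm.trans hper
        rw [hθm, (hR2mem _).mp a.2] at h2
        have h3 : (QuotientGroup.mk (a : R) : E) ^ 2 = 1 := by
          rw [sq]
          nth_rewrite 1 [← h2]
          rw [inv_mul_cancel]
        have h4 := hsqrt (QuotientGroup.mk (a : R))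
        rw [h3, one_pow] at h4
        exact (QuotientGroup.eq_one_iff (a : R)).mp h4.symm)
      hNK hζ ρb hρb
      (fun a ha => by
        obtain ⟨a, rfl⟩ := QuotientGroup.mk_surjective a
        exact ⟨_, hρWM ⟨a, (hcen a).mp ha⟩⟩)
      uW huWN hfixW
      (fun a => by
        obtain ⟨a, rfl⟩ := QuotientGroup.mk_surjective a
        exact hcompθ a)
    obtain ⟨hN3, hcard, -, -⟩ := hHH
    -- the plane
    have hcard2 : Nat.card E2 = (N - 1) ^ 2 := by
      rw [← hcard]
      let f : R2 →* E2 := ((QuotientGroup.mk' M).comp R2.subtype).codRestrict E2 fun a => a.2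
      have hf : Function.Surjective f := by
        rintro ⟨e, he⟩
        obtain ⟨a, rfl⟩ := QuotientGroup.mk_surjective e
        exact ⟨⟨a, he⟩, rfl⟩
      have hk : f.ker = (center Qb).comap (QuotientGroup.mk' Kn) := by
        ext a
        rw [MonoidHom.mem_ker, Subgroup.mem_comap]
        exact (Subtype.ext_iff.trans (QuotientGroup.eq_one_iff (a : R))).trans (hcen a).symm
      rw [← Nat.card_congr (QuotientGroup.quotientKerEquivOfSurjective f hf).toEquiv]
      show f.ker.index = (center Qb).index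
      rw [hk, Subgroup.index_comap_of_surjective _ (QuotientGroup.mk'_surjective Kn)]
    have hE2p : IsPGroup q E2 := fun e => ⟨1, Subtype.ext (by rw [pow_one, SubmonoidClass.coe_pow]; exact hEexp _)⟩
    obtain ⟨j, hj⟩ := IsPGroup.iff_card.mp hE2p
    obtain ⟨e, -, he⟩ := (Nat.dvd_prime_pow hqf.out).mp (show N - 1 ∣ q ^ j by
      rw [← hj, hcard2]; exact dvd_pow_self _ two_ne_zero)
    have he1 : 1 ≤ e := by
      rcases Nat.eq_zero_or_pos e with h0 | h0
      · rw [h0, pow_zero] at he; omega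
      · exact h0
    have hee : e = 1 := mersenne (by have := hqf.out.two_le; omega) (hqf.out.odd_of_ne_two hq2) he1
      (k := m₀ + 1) (by rw [← he, ← hN]; omega)
    rw [hee, pow_one] at he
    have hm₀ : 1 ≤ m₀ := by
      rcases Nat.eq_zero_or_pos m₀ with h0 | h0
      · rw [hN, h0] at hN3; norm_num at hN3
      · exact h0
    let θE : MulAut E := H28.quotAut θ M hθM
    have hθEmk : ∀ a : R, θE (QuotientGroup.mk a) = QuotientGroup.mk (θ a) := fun a => rfl
    have hθE2 : ∀ e ∈ E2, θE e ∈ E2 := by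
      intro e he'
      obtain ⟨a, rfl⟩ := QuotientGroup.mk_surjective e
      exact hθR2 a he'
    have hωE : ∀ e ∈ E2, φE ω e ∈ E2 := fun e he' => by
      show τE (φE ω e) = (φE ω e)⁻¹
      rw [hτφE, hτω, he', map_inv]
    let uE : MulAut E2 := H28.subAut θE E2 hθE2
    let ωE : MulAut E2 := H28.subAut (φE ω) E2 hωE
    let θA := (σA ^ (2 ^ k₁)) ^ (2 ^ k₂)
    have hpowcompA : ∀ (i : ℕ) a r, (σR ^ i) (φ a r) = φ ((σA ^ i) a) ((σR ^ i) r) := by
      intro i
      induction i with
      | zero => intro a r; rfl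
      | succ i ih =>
        intro a r
        rw [pow_succ', pow_succ', MulAut.mul_apply, MulAut.mul_apply, MulAut.mul_apply, ih, hcompA]
    have hθφ : ∀ a r, θ (φ a r) = φ (θA a) (θ r) := fun a r => by
      rw [hθ, hθ₁, ← pow_mul, show θA = σA ^ (2 ^ k₁ * 2 ^ k₂) from (pow_mul _ _ _).symm]
      exact hpowcompA _ a r
    have hθAω : φE (θA ω) * φE ω = φE ω * φE (θA ω) := by
      rw [← map_mul, ← map_mul, Subgroup.mem_center_iff.mp hωc (θA ω)]
    let Bp : E2 → E2 → K := fun a b => β (Quotient.out (a : E)) (Quotient.out (b : E))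
    have hβE : ∀ a a' b b' : R, (QuotientGroup.mk a : E) = QuotientGroup.mk a' →
        (QuotientGroup.mk b : E) = QuotientGroup.mk b' → β a b = β a' b' := by
      intro a a' b b' ha hb
      have h1 : a⁻¹ * a' ∈ M := QuotientGroup.eq.mp ha
      have h2 : b⁻¹ * b' ∈ M := QuotientGroup.eq.mp hb
      have h3 : β a (b⁻¹ * b') = 1 := by
        have := hβswap a (b⁻¹ * b')
        rwa [h2, mul_one] at this
      rw [show a' = a * (a⁻¹ * a') by group, hβl, h1 b', mul_one, show b' = b * (b⁻¹ * b') by group, hβr,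
        h3, mul_one]
    have hωe : ωE = 1 := by
      refine plane (r := q) hm₀ (by rw [← hN]; omega)
        (E := E2) (fun a => Subtype.ext (hEexp _)) (by rw [hcard2, he]) Bp
        (fun a b c => ?_) (fun a b c => ?_) (fun a ha => ?_) (fun a => ?_) uE ωE (fun a => ?_) ?_ (fun a b => ?_)
        (k := orderOf ω) ?_ ?_ ?_
      · rw [← hβl]
        exact hβE _ _ _ _ ((Quotient.out_eq _).trans (by
          show (a : E) * (b : E) = _
          exact (congrArg₂ (· * ·) (Quotient.out_eq (a : E)).symm (Quotient.out_eq (b : E)).symm))) rfl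
      · rw [← hβr]
        exact hβE _ _ _ _ rfl ((Quotient.out_eq _).trans (by
          show (b : E) * (c : E) = _
          exact (congrArg₂ (· * ·) (Quotient.out_eq (b : E)).symm (Quotient.out_eq (c : E)).symm)))
      · apply Subtype.ext
        rw [← Quotient.out_eq (a : E)]
        refine (QuotientGroup.eq_one_iff _).mpr (hMof _ ?_ fun b hb => ?_)
        · show (QuotientGroup.mk (Quotient.out (a : E)) : E) ∈ E2
          rw [show (QuotientGroup.mk (Quotient.out (a : E)) : E) = (a : E) from Quotient.out_eq _]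
          exact a.2
        · exact (hβE _ _ _ _ rfl (Quotient.out_eq (QuotientGroup.mk b : E)).symm).trans (ha ⟨_, hb⟩)
      · exact (hβE _ (Quotient.out (a : E)) _ 1 rfl (Quotient.out_eq _)).trans (hβ1' _)
      · apply Subtype.ext
        rw [H28.subAut_pow_coe]
        obtain ⟨r, hr⟩ := QuotientGroup.mk_surjective (a : E)
        rw [← hr, H28.quotAut_pow_mk, hθm]
        have := a.2
        rw [← hr] at this
        refine Eq.trans this ?_
        rw [Subgroup.coe_inv, ← hr]
      · have h1 : uE * ωE * uE⁻¹ = H28.subAut (φE (θA ω)) E2 (fun e he' => by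
            show τE (φE (θA ω) e) = (φE (θA ω) e)⁻¹
            rw [hτφE, show (σA ^ 2 ^ n) (θA ω) = θA ((σA ^ 2 ^ n) ω) by
              rw [show θA = σA ^ (2 ^ k₁ * 2 ^ k₂) from (pow_mul _ _ _).symm, ← MulAut.mul_apply, ← MulAut.mul_apply,
                ((Commute.refl σA).pow_pow _ _).eq], hτω, he', map_inv]) := by
          rw [mul_inv_eq_iff_eq_mul]
          refine MulEquiv.ext fun a => Subtype.ext ?_
          show θE (φE ω (a : E)) = φE (θA ω) (θE (a : E))
          obtain ⟨r, hr⟩ := QuotientGroup.mk_surjective (a : E)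
          rw [← hr]
          show QuotientGroup.mk (θ (φ ω r)) = QuotientGroup.mk (φ (θA ω) (θ r))
          rw [hθφ]
        rw [h1]
        exact MulEquiv.ext fun a => Subtype.ext (DFunLike.congr_fun hθAω (a : E))
      · refine (hβE _ (φ ω (Quotient.out (a : E))) _ (φ ω (Quotient.out (b : E))) ?_ ?_).trans (hβφ ω _ _)
        · refine (Quotient.out_eq ((ωE a : E2) : E)).trans ?_
          show φE ω (a : E) = _
          conv_lhs => rw [← Quotient.out_eq (a : E)]
          rfl
        · refine (Quotient.out_eq ((ωE b : E2) : E)).trans ?_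
          show φE ω (b : E) = _
          conv_lhs => rw [← Quotient.out_eq (b : E)]
          rfl
      · obtain ⟨i, hi⟩ := IsPGroup.iff_orderOf.mp hA ω
        rw [hi]; exact (hsf.out.odd_of_ne_two hs2).pow
      · obtain ⟨i, hi⟩ := IsPGroup.iff_orderOf.mp hA ω
        rw [hi]; exact ((Nat.coprime_primes hsf.out hqf.out).mpr hsq).pow_left _
      · refine MulEquiv.ext fun a => Subtype.ext ?_
        rw [H28.subAut_pow_coe, ← map_pow, pow_orderOf_eq_one, map_one]
        rfl
    intro e he'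
    exact congrArg Subtype.val (DFunLike.congr_fun hωe ⟨e, he'⟩)
  -- `ω` is trivial on `E`
  let f : E →* E := MonoidHom.mk' (fun e => e⁻¹ * φE ω e) fun a b => by
    show (a * b)⁻¹ * φE ω (a * b) = a⁻¹ * φE ω a * (b⁻¹ * φE ω b)
    rw [map_mul, mul_inv, mul_mul_mul_comm]
  have hUfix : ∀ e, τE (f e) = f e := by
    intro e
    obtain ⟨e₁, e₂, he₁, he₂, rfl⟩ := hsplit e
    have : f (e₁ * e₂) = f e₁ := by
      rw [map_mul, show f e₂ = 1 by
        show e₂⁻¹ * φE ω e₂ = 1
        rw [hωE2 e₂ he₂, inv_mul_cancel], mul_one]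
    rw [this]
    show τE (e₁⁻¹ * φE ω e₁) = e₁⁻¹ * φE ω e₁
    rw [map_mul, map_inv, hτφE, hτω, he₁]
  have hAU : ∀ e a, φE a (f e) = f e := by
    intro e
    let St : Subgroup A :=
      { carrier := {a | φE a (f e) = f e}
        one_mem' := by simp
        mul_mem' := fun {a b} ha hb => by
          show φE (a * b) (f e) = f e
          rw [map_mul, MulAut.mul_apply, hb, ha]
        inv_mem' := fun {a} ha => by
          show φE a⁻¹ (f e) = f e
          conv_lhs => rw [show f e = φE a (f e) from ha.symm]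
          rw [map_inv, MulAut.inv_apply_self] }
    have hSt : St = ⊤ := by
      rw [eq_top_iff, ← hgenA, closure_le]
      rintro _ ⟨b, rfl⟩
      show φE (b⁻¹ * (σA ^ 2 ^ n) b) (f e) = f e
      have hb : φE b (f e) = f (φE b e) := by
        show φE b (e⁻¹ * φE ω e) = (φE b e)⁻¹ * φE ω (φE b e)
        have hbω : φE b (φE ω e) = φE ω (φE b e) := by
          show (φE b * φE ω) e = (φE ω * φE b) e
          rw [← map_mul, ← map_mul, Subgroup.mem_center_iff.mp hωc b]
        rw [map_mul, map_inv, hbω]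
      have h2 : φE ((σA ^ 2 ^ n) b) (f e) = φE b (f e) := by
        conv_lhs => rw [← hUfix e]
        rw [← hτφE, hb, hUfix]
      rw [map_mul, MulAut.mul_apply, h2, map_inv, MulAut.inv_apply_self]
    intro a
    exact (hSt ▸ Subgroup.mem_top a : a ∈ St)
  have hfinal : ∀ e : E, φE ω e = e := fun e => by
    refine eq_of_disp_fixed (φE ω) (k := orderOf ω) (by rw [← map_pow, pow_orderOf_eq_one, map_one]) ?_ e (hAU e ω)
    obtain ⟨i, hi⟩ := IsPGroup.iff_orderOf.mp hA ω
    obtain ⟨j, hj⟩ := IsPGroup.iff_card.mp (hR.to_quotient M)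
    rw [hi, hj]
    exact (((Nat.coprime_primes hsf.out hqf.out).mpr hsq).pow_left _).pow_right _
  have := hfinal (QuotientGroup.mk x)
  exact (QuotientGroup.eq.mp this.symm : x⁻¹ * φ ω x ∈ M) y

end H1.Gross
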