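import Cfsg.Agent.H1.Gross.Config
import Cfsg.Agent.H1.CoprimeAction2
import Cfsg.Agent.H6.Basic
import Cfsg.Agent.H28.ShultGross.Height
import Cfsg.Agent.H28.FPFOrderFour
import Cfsg.Agent.H31.FittingLength

/-!
Gross's theorem: a solvable group with a fixed-point-free automorphism of order `2 ^ n`, `n ≥ 2`, has Fitting
height at most `2 n - 2`.
-/

set_option autoImplicit false
set_option linter.style.haveILetI false

namespace H1.Gross

open Subgroup
open H28 (FPF)
open H31.FitLen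

universe u

/-- Elements centralising the other cores, in a core modulo the Fitting subgroup, lie in the Fitting
subgroup. -/
theorem mem_fitting_of_centralizes {G : Type u} [Group G] [Finite G] {q : ℕ} [Fact q.Prime]
    [(Cfsg.fittingSubgroup G).Normal] {g : G}
    (hg : QuotientGroup.mk' (Cfsg.fittingSubgroup G) g ∈ Cfsg.pCore q (G ⧸ Cfsg.fittingSubgroup G))
    (hc : ∀ t : ℕ, t.Prime → t ≠ q → ∀ x ∈ Cfsg.pCore t G, x * g = g * x) :
    g ∈ Cfsg.fittingSubgroup G := by
  classical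
  set F := Cfsg.fittingSubgroup G with hF
  set N : Subgroup G := ⨆ t : {t : Nat.Primes // (t : ℕ) ≠ q}, Cfsg.pCore (t.1 : ℕ) G with hN
  haveI hNn : N.Normal := by
    haveI : ∀ t : {t : Nat.Primes // (t : ℕ) ≠ q}, (Cfsg.pCore (t.1 : ℕ) G).Normal := fun t =>
      H1.pCore_normal' _ _
    exact Subgroup.iSup_normal _
  haveI : (Cfsg.pCore q (G ⧸ F)).Normal := H1.pCore_normal' _ _
  set L := (Cfsg.pCore q (G ⧸ F)).comap (QuotientGroup.mk' F) with hL
  haveI : L.Normal := Subgroup.Normal.comap inferInstance _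
  haveI : (Subgroup.centralizer (N : Set G)).Normal := Subgroup.normal_centralizer
  set C := L ⊓ Subgroup.centralizer (N : Set G) with hC
  haveI : C.Normal := inferInstance
  have hgC : g ∈ C := by
    refine ⟨hg, ?_⟩
    have h1 : N ≤ Subgroup.centralizer ({g} : Set G) := by
      rw [hN]
      refine iSup_le fun t x hx => ?_
      exact Subgroup.mem_centralizer_singleton_iff.mpr (hc _ t.1.2 t.2 x hx)
    exact Subgroup.mem_centralizer_iff.mpr fun x hx => Subgroup.mem_centralizer_singleton_iff.mp (h1 hx)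
  -- a `q`-group modulo `N`
  have hFq : IsPGroup q (F.map (QuotientGroup.mk' N)) := by
    refine IsPGroup.to_le ((H1.isPGroup_pCore q G).map (QuotientGroup.mk' N)) ?_
    rw [Subgroup.map_le_iff_le_comap, hF, H1.fittingSubgroup_eq_iSup_pCore]
    refine iSup_le fun t => ?_
    by_cases htq : (t : ℕ) = q
    · rw [htq]; exact Subgroup.le_comap_map _ _
    · intro x hx
      rw [Subgroup.mem_comap]
      have : x ∈ N := le_iSup (fun t : {t : Nat.Primes // (t : ℕ) ≠ q} => Cfsg.pCore (t.1 : ℕ) G) ⟨t, htq⟩ hx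
      rw [(QuotientGroup.eq_one_iff x).mpr this |> fun h => (show QuotientGroup.mk' N x = 1 from h)]
      exact one_mem _
  have hCq : IsPGroup q (C ⧸ Subgroup.center C) := by
    intro y
    obtain ⟨x, rfl⟩ := QuotientGroup.mk_surjective y
    obtain ⟨i, hi⟩ := H1.isPGroup_pCore q (G ⧸ F) ⟨_, x.2.1⟩
    have hxF : (x : G) ^ q ^ i ∈ F := by
      have h1 := congrArg Subtype.val hi
      rw [SubmonoidClass.coe_pow, ← map_pow] at h1
      exact (QuotientGroup.eq_one_iff _).mp h1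
    obtain ⟨j, hj⟩ := hFq ⟨_, Subgroup.mem_map_of_mem (QuotientGroup.mk' N) hxF⟩
    have hxN : ((x : G) ^ q ^ i) ^ q ^ j ∈ N := by
      have h1 := congrArg Subtype.val hj
      rw [SubmonoidClass.coe_pow, ← map_pow] at h1
      exact (QuotientGroup.eq_one_iff _).mp h1
    refine ⟨i + j, ?_⟩
    rw [← QuotientGroup.mk_pow, QuotientGroup.eq_one_iff, Subgroup.mem_center_iff]
    intro z
    refine Subtype.ext ?_
    rw [Subgroup.coe_mul, Subgroup.coe_mul, SubmonoidClass.coe_pow, pow_add, pow_mul]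
    exact (Subgroup.mem_centralizer_iff.mp z.2.2 _ hxN).symm
  haveI : Group.IsNilpotent (C ⧸ Subgroup.center C) := hCq.isNilpotent
  have hCnil : Group.IsNilpotent C :=
    Subgroup.isNilpotent_of_ker_le_center (QuotientGroup.mk' (Subgroup.center C)) (QuotientGroup.ker_mk' _).le
  exact H1.le_fittingSubgroup hCnil hgC

/-- The module `P / Φ (P)` over an algebraically closed field. -/
theorem exists_module {G : Type u} [Group G] [Finite G] {r : ℕ} [Fact r.Prime] (P : Subgroup G) [hPn : P.Normal]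
    (hP : IsPGroup r P) (σ : MulAut G) (hPσ : ∀ x ∈ P, σ x ∈ P) (hfpf : FPF σ) :
    ∃ (m : ℕ) (π : G →* Module.End (AlgebraicClosure (ZMod r)) (Fin m → AlgebraicClosure (ZMod r)))
      (S : Module.End (AlgebraicClosure (ZMod r)) (Fin m → AlgebraicClosure (ZMod r))),
      (∀ N, σ ^ N = 1 → S ^ N = 1) ∧ (∀ v, S v = v → v = 0) ∧ (∀ g, S * π g = π (σ g) * S) ∧
      ∀ g, π g = 1 ↔ ∀ x : P, x⁻¹ * (MulAut.conjNormal g : MulAut P) x ∈ frattini P := by
  classical
  set Φ := frattini P with hΦ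
  letI : CommGroup (P ⧸ Φ) := { (inferInstance : Group (P ⧸ Φ)) with
    mul_comm := fun x y => by
      obtain ⟨a, rfl⟩ := QuotientGroup.mk_surjective x
      obtain ⟨b, rfl⟩ := QuotientGroup.mk_surjective y
      refine (QuotientGroup.eq.mpr ?_ : (QuotientGroup.mk (a * b) : P ⧸ Φ) = QuotientGroup.mk (b * a))
      have h := H6.commutator_le_frattini hP
        (Subgroup.commutator_mem_commutator (Subgroup.mem_top b⁻¹) (Subgroup.mem_top a⁻¹))
      simpa [commutatorElement_def, mul_assoc] using h }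
  obtain ⟨m, T, hT, hTfix⟩ := exists_autRep (E := P ⧸ Φ) (r := r) (fun e => by
    obtain ⟨a, rfl⟩ := QuotientGroup.mk_surjective e
    exact (QuotientGroup.eq_one_iff (a ^ r)).mpr (H6.pow_prime_mem_frattini hP a))
  let qh := quotHom (MonoidHom.id (MulAut P)) Φ fun f => H28.char_apply_mem f Φ
  let σP : MulAut P := H28.subAut σ P hPσ
  refine ⟨m, T.comp (qh.comp MulAut.conjNormal), T (qh σP), fun N hN => ?_, hTfix (qh σP) ?_, fun g => ?_, fun g => ?_⟩
  · rw [← map_pow, ← map_pow, show σP ^ N = 1 from MulEquiv.ext fun x => Subtype.ext (by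
      rw [H28.subAut_pow_coe, hN]; rfl), map_one, map_one]
  · exact H28.fpf_quotAut (H28.fpf_subAut hfpf P hPσ) Φ (H28.char_apply_mem σP Φ)
  · show T (qh σP) * T (qh (MulAut.conjNormal g)) = T (qh (MulAut.conjNormal (σ g))) * T (qh σP)
    rw [← map_mul, ← map_mul, ← map_mul, ← map_mul]
    congr 2
    refine MulEquiv.ext fun x => Subtype.ext ?_
    show σ (g * (x : G) * g⁻¹) = σ g * σ (x : G) * (σ g)⁻¹
    rw [map_mul, map_mul, map_inv]
  · constructor
    · intro h x
      have h1 : qh (MulAut.conjNormal g) = 1 := hT (h.trans (map_one T).symm)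
      exact QuotientGroup.eq.mp (DFunLike.congr_fun h1 (QuotientGroup.mk x)).symm
    · intro h
      show T (qh (MulAut.conjNormal g)) = 1
      rw [show qh (MulAut.conjNormal g) = 1 from MulEquiv.ext fun y => by
        obtain ⟨x, rfl⟩ := QuotientGroup.mk_surjective y
        exact (QuotientGroup.eq.mpr (h x)).symm, map_one]

/-- A lift of an element of prime power order with prime power order. -/
theorem exists_lift {G H : Type u} [Group G] [Finite G] [Group H] (f : G →* H) (hf : Function.Surjective f)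
    {q i : ℕ} (hq : q.Prime) {y : H} (hy : y ^ q ^ i = 1) : ∃ x, f x = y ∧ ∃ j, x ^ q ^ j = 1 := by
  obtain ⟨x, rfl⟩ := hf y
  obtain ⟨e, d, hd, he⟩ := Nat.exists_eq_pow_mul_and_not_dvd (orderOf_pos x).ne' q hq.ne_one
  have hco : d.Coprime (q ^ (i + 1)) := ((hq.coprime_iff_not_dvd.mpr hd).symm).pow_right _
  obtain ⟨t, -, ht⟩ := Nat.exists_mul_mod_eq_one_of_coprime hco
    (Nat.one_lt_pow (by omega) hq.one_lt)
  refine ⟨x ^ (d * t), ?_, e, ?_⟩
  · have hy' : (f x) ^ q ^ (i + 1) = 1 := by rw [pow_succ, pow_mul, hy, one_pow]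
    rw [map_pow, pow_eq_pow_mod _ hy', ht, pow_one]
  · rw [← pow_mul, show d * t * q ^ e = q ^ e * d * t by ring, pow_mul, ← he, pow_orderOf_eq_one, one_pow]

/-- `σ ^ (2 ^ n)` is trivial modulo the second Fitting subgroup. -/
theorem disp_mem_fitting_two {G : Type u} [Group G] [Finite G] (hG : Group.IsSolvable G) {n : ℕ}
    (σ : MulAut G) (hσ : σ ^ (2 ^ (n + 1)) = 1) (hfpf : FPF σ) [(Cfsg.fittingSubgroup G).Normal] (g : G) :
    QuotientGroup.mk' (Cfsg.fittingSubgroup G) (g⁻¹ * (σ ^ (2 ^ n)) g) ∈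
      Cfsg.fittingSubgroup (G ⧸ Cfsg.fittingSubgroup G) := by
  classical
  haveI := hG
  set F := Cfsg.fittingSubgroup G with hF
  haveI : F.Characteristic := H1.fittingSubgroup_characteristic G
  have hFσ : ∀ x ∈ F, σ x ∈ F := H28.char_apply_mem σ F
  set σM : MulAut (G ⧸ F) := H28.quotAut σ F hFσ with hσMdef
  have hσM : σM ^ (2 ^ (n + 1)) = 1 := MulEquiv.ext fun y => by
    obtain ⟨b, rfl⟩ := QuotientGroup.mk_surjective y
    rw [H28.quotAut_pow_mk, hσ]; rfl
  have hfM : FPF σM := H28.fpf_quotAut hfpf F hFσ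
  set F₁ := Cfsg.fittingSubgroup (G ⧸ F) with hF₁
  haveI : F₁.Normal := H1.fittingSubgroup_normal _
  haveI : F₁.Characteristic := H1.fittingSubgroup_characteristic _
  have hF₁σ : ∀ x ∈ F₁, σM x ∈ F₁ := H28.char_apply_mem σM F₁
  set σN : MulAut ((G ⧸ F) ⧸ F₁) := H28.quotAut σM F₁ hF₁σ with hσNdef
  have hσN : σN ^ (2 ^ (n + 1)) = 1 := MulEquiv.ext fun y => by
    obtain ⟨b, rfl⟩ := QuotientGroup.mk_surjective y
    rw [H28.quotAut_pow_mk, hσM]; rfl
  have hfN : FPF σN := H28.fpf_quotAut hfM F₁ hF₁σ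
  have h2G : ¬ 2 ∣ Nat.card G := H28.SG.not_dvd_card_of_fpf Nat.prime_two hσ hfpf
  have hodd : ∀ t : ℕ, t ∣ Nat.card G → t ≠ 2 := fun t ht h => h2G (h ▸ ht)
  have hcore : ∀ s : Nat.Primes, ∀ x ∈ Cfsg.pCore (s : ℕ) ((G ⧸ F) ⧸ F₁), (σN ^ (2 ^ n)) x = x := by
    intro s
    haveI : Fact (s : ℕ).Prime := ⟨s.2⟩
    by_contra hno
    push Not at hno
    obtain ⟨z₀, hz₀, hz₀ne⟩ := hno
    haveI : (Cfsg.pCore (s : ℕ) ((G ⧸ F) ⧸ F₁)).Normal := H1.pCore_normal' _ _
    set L := (Cfsg.pCore (s : ℕ) ((G ⧸ F) ⧸ F₁)).comap (QuotientGroup.mk' F₁) with hL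
    have hLσ : ∀ x ∈ L, σM x ∈ L := by
      intro x hx
      haveI := H1.pCore_characteristic (s : ℕ) ((G ⧸ F) ⧸ F₁)
      exact H28.char_apply_mem σN (Cfsg.pCore (s : ℕ) ((G ⧸ F) ⧸ F₁)) (QuotientGroup.mk x) hx
    let σL : MulAut L := H28.subAut σM L hLσ
    have hσL : σL ^ (2 ^ (n + 1)) = 1 := MulEquiv.ext fun x => Subtype.ext (by
      rw [H28.subAut_pow_coe, hσM]; rfl)
    -- an invariant Sylow subgroup
    obtain ⟨Sy, hSy⟩ : ∃ Sy : Sylow (s : ℕ) L, σL • Sy = Sy := by
      haveI : Fact (Nat.Prime 2) := ⟨Nat.prime_two⟩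
      obtain ⟨j, -, hj⟩ := (Nat.dvd_prime_pow Nat.prime_two).mp (orderOf_dvd_of_pow_eq_one hσL)
      have h2 : IsPGroup 2 (Subgroup.zpowers σL) := IsPGroup.of_card (n := j) (by rw [Nat.card_zpowers, hj])
      have hnd : ¬ 2 ∣ Nat.card (Sylow (s : ℕ) L) := by
        intro hd
        obtain ⟨P⟩ : Nonempty (Sylow (s : ℕ) L) := inferInstance
        have h3 : Nat.card (Sylow (s : ℕ) L) ∣ Nat.card L := P.card_dvd_index.trans (Subgroup.index_dvd_card _)
        have h4 : Nat.card L ∣ Nat.card G := (Subgroup.card_subgroup_dvd_card L).trans (Subgroup.card_quotient_dvd_card F)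
        exact h2G (hd.trans (h3.trans h4))
      obtain ⟨Sy, hSy⟩ := h2.nonempty_fixed_point_of_prime_not_dvd_card (Sylow (s : ℕ) L) hnd
      exact ⟨Sy, hSy ⟨σL, Subgroup.mem_zpowers σL⟩⟩
    let A : Subgroup (G ⧸ F) := (Sy : Subgroup L).map L.subtype
    have hAs : IsPGroup (s : ℕ) A := Sy.isPGroup'.map _
    have hAσ : ∀ x ∈ A, σM x ∈ A := by
      rintro _ ⟨x, hx, rfl⟩
      refine ⟨σL x, ?_, rfl⟩
      have h1 : σL • x ∈ ((σL • Sy : Sylow (s : ℕ) L) : Subgroup L) := Subgroup.smul_mem_pointwise_smul x σL _ hx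
      rw [hSy] at h1
      exact h1
    -- it covers the core
    obtain ⟨x, hxA, hxd⟩ : ∃ x ∈ A, x⁻¹ * (σM ^ (2 ^ n)) x ∉ F₁ := by
      by_contra hall
      push Not at hall
      apply hz₀ne
      let f : L →* Cfsg.pCore (s : ℕ) ((G ⧸ F) ⧸ F₁) :=
        ((QuotientGroup.mk' F₁).comp L.subtype).codRestrict _ fun x => x.2
      have hf : Function.Surjective f := by
        rintro ⟨y, hy⟩
        obtain ⟨b, rfl⟩ := QuotientGroup.mk_surjective y
        exact ⟨⟨b, hy⟩, rfl⟩
      have htop : ((Sy.mapSurjective hf : Sylow (s : ℕ) (Cfsg.pCore (s : ℕ) ((G ⧸ F) ⧸ F₁))) :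
          Subgroup (Cfsg.pCore (s : ℕ) ((G ⧸ F) ⧸ F₁))) = ⊤ :=
        ((Sy.mapSurjective hf).is_maximal' ((H1.isPGroup_pCore _ _).to_subgroup ⊤) le_top).symm
      obtain ⟨a, ha, hae⟩ : (⟨z₀, hz₀⟩ : Cfsg.pCore (s : ℕ) ((G ⧸ F) ⧸ F₁)) ∈ ((Sy : Subgroup L).map f) := by
        have := htop ▸ Subgroup.mem_top (⟨z₀, hz₀⟩ : Cfsg.pCore (s : ℕ) ((G ⧸ F) ⧸ F₁))
        simpa [Sylow.coe_mapSurjective] using this
      have he : QuotientGroup.mk (a : G ⧸ F) = z₀ := congrArg Subtype.val hae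
      rw [← he, H28.quotAut_pow_mk]
      exact (QuotientGroup.eq.mpr (hall (a : G ⧸ F) ⟨a, ha, rfl⟩)).symm
    set τM := σM ^ (2 ^ n) with hτM
    set y := x⁻¹ * τM x with hy
    have hτA : τM x ∈ A := by
      have : ∀ i : ℕ, (σM ^ i) x ∈ A := by
        intro i
        induction i with
        | zero => exact hxA
        | succ i ih => rw [pow_succ', MulAut.mul_apply]; exact hAσ _ ih
      exact this _
    have hyA : y ∈ A := A.mul_mem (A.inv_mem hxA) hτA
    have hAL : A ≤ L := Subgroup.map_subtype_le _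
    -- a core moved by `y`
    obtain ⟨q, hq, hqs, u, hu, huy⟩ : ∃ q : ℕ, q.Prime ∧ q ≠ (s : ℕ) ∧ ∃ u ∈ Cfsg.pCore q (G ⧸ F), u * y ≠ y * u := by
      by_contra hall
      push Not at hall
      exact hxd (mem_fitting_of_centralizes (q := (s : ℕ)) (hAL hyA) fun t ht hts u hu => hall t ht hts u hu)
    haveI := Fact.mk hq
    haveI : (Cfsg.pCore q (G ⧸ F)).Normal := H1.pCore_normal' _ _
    set Q := Cfsg.pCore q (G ⧸ F) with hQ
    have hQσ : ∀ z ∈ Q, σM z ∈ Q := by
      haveI := H1.pCore_characteristic q (G ⧸ F)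
      exact H28.char_apply_mem σM Q
    set c := y * u * y⁻¹ * u⁻¹ with hcdef
    have hcQ : c ∈ Q := Q.mul_mem ((H1.pCore_normal' _ _).conj_mem u hu y) (Q.inv_mem hu)
    have hc1 : c ≠ 1 := fun h => huy (by
      rw [hcdef, mul_inv_eq_one, mul_inv_eq_iff_eq_mul] at h
      exact h.symm)
    obtain ⟨i, hi⟩ := H1.isPGroup_pCore q (G ⧸ F) ⟨c, hcQ⟩
    obtain ⟨k, hk, j, hj⟩ := exists_lift (QuotientGroup.mk' F) (QuotientGroup.mk'_surjective F) hq
      (congrArg Subtype.val hi : c ^ q ^ i = 1)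
    have hkF : k ∉ F := fun h => hc1 (hk.symm.trans ((QuotientGroup.eq_one_iff k).mpr h))
    obtain ⟨r, hr, hrq, w, hw, hwk⟩ : ∃ r : ℕ, r.Prime ∧ r ≠ q ∧ ∃ w ∈ Cfsg.pCore r G, w * k ≠ k * w := by
      by_contra hall
      push Not at hall
      exact hkF (mem_fitting_of_centralizes (q := q) (by rw [hk]; exact hcQ) fun t ht htq w hw => hall t ht htq w hw)
    haveI := Fact.mk hr
    haveI : (Cfsg.pCore r G).Normal := H1.pCore_normal' _ _
    set P := Cfsg.pCore r G with hP
    have hPσ : ∀ z ∈ P, σ z ∈ P := by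
      haveI := H1.pCore_characteristic r G
      exact H28.char_apply_mem σ P
    obtain ⟨m, π, S, hSN, hSfix, hScomp, hπ⟩ := exists_module P (H1.isPGroup_pCore r G) σ hPσ hfpf
    have hFker : F ≤ π.ker := by
      rw [hF, H1.fittingSubgroup_eq_iSup_pCore]
      refine iSup_le fun t f hf => ?_
      rw [MonoidHom.mem_ker, hπ]
      intro z
      by_cases htr : (t : ℕ) = r
      · have hfP : f ∈ P := by rw [hP, ← htr]; exact hf
        have h1 := H6.commutator_le_frattini (H1.isPGroup_pCore r G)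
          (Subgroup.commutator_mem_commutator (Subgroup.mem_top (z⁻¹ : P)) (Subgroup.mem_top (⟨f, hfP⟩ : P)))
        convert h1 using 1
        apply Subtype.ext
        simp [commutatorElement_def, mul_assoc]
      · have hcomm : (f : G) * z = z * f := by
          haveI : Fact (t : ℕ).Prime := ⟨t.2⟩
          haveI : (Cfsg.pCore (t : ℕ) G).Normal := H1.pCore_normal' _ _
          exact (Subgroup.commute_of_normal_of_disjoint _ _ inferInstance inferInstance
            ((H1.isPGroup_pCore (t : ℕ) G).disjoint_of_ne _ _ htr _ _ (H1.isPGroup_pCore r G)) f z hf z.2).eq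
        have : z⁻¹ * (MulAut.conjNormal f : MulAut P) z = 1 := by
          apply Subtype.ext
          rw [Subgroup.coe_mul, Subgroup.coe_inv, MulAut.conjNormal_apply, hcomm, mul_inv_cancel_right,
            inv_mul_cancel]
          rfl
        rw [this]; exact one_mem _
    have hπk : π k ≠ 1 := by
      intro h
      rw [hπ] at h
      apply hwk
      have hle := H1.le_centralizer_of_frattini (A := Subgroup.zpowers k) (K := P)
        (by rw [Subgroup.normalizer_eq_top]; exact le_top) ?_ ?_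
      · exact Subgroup.mem_centralizer_iff.mp (hle (Subgroup.mem_zpowers k)) w hw
      · have h1 : orderOf k ∣ q ^ j := orderOf_dvd_of_pow_eq_one hj
        obtain ⟨e, he⟩ := IsPGroup.iff_card.mp ((H1.isPGroup_pCore r G).to_subgroup (frattini P))
        rw [Nat.card_zpowers, he]
        exact Nat.Coprime.coprime_dvd_left h1 (((Nat.coprime_primes hq hr).mpr (Ne.symm hrq)).pow j e)
      · have hkey : ∀ a ∈ Subgroup.zpowers k, π a = 1 := by
          have : Subgroup.zpowers k ≤ π.ker := Subgroup.zpowers_le.mpr (MonoidHom.mem_ker.mpr ((hπ k).mpr h))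
          exact fun a ha => MonoidHom.mem_ker.mp (this ha)
        intro a ha z hz
        have h1 := (hπ a).mp (hkey a ha) ⟨z, hz⟩
        refine ⟨⟨z, hz⟩ * ((⟨z, hz⟩ : P)⁻¹ * (MulAut.conjNormal a : MulAut P) ⟨z, hz⟩) * (⟨z, hz⟩ : P)⁻¹, ?_, ?_⟩
        · exact (inferInstance : (frattini P).Normal).conj_mem _ h1 _
        · simp [mul_assoc]
    let πM : G ⧸ F →* Module.End (AlgebraicClosure (ZMod r)) (Fin m → AlgebraicClosure (ZMod r)) :=
      QuotientGroup.lift F π hFker
    have hπMmk : ∀ b : G, πM (QuotientGroup.mk b) = π b := fun b => QuotientGroup.lift_mk' _ _ b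
    have hne : ∀ t : ℕ, t.Prime → t ≠ r → (t : AlgebraicClosure (ZMod r)) ≠ 0 := by
      intro t ht htr h
      rw [CharP.cast_eq_zero_iff (AlgebraicClosure (ZMod r)) r] at h
      exact htr ((Nat.prime_dvd_prime_iff_eq hr ht).mp h).symm
    have hord : ∀ {H : Type u} [Group H] [Finite H] {t : ℕ} (z : H), t.Prime → z ≠ 1 → (∃ e, z ^ t ^ e = 1) →
        t ∣ Nat.card H := by
      intro H _ _ t z ht hz he
      obtain ⟨e, he⟩ := he
      obtain ⟨e', -, he'⟩ := (Nat.dvd_prime_pow ht).mp (orderOf_dvd_of_pow_eq_one he)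
      have : e' ≠ 0 := fun h0 => hz (orderOf_eq_one_iff.mp (by rw [he', h0, pow_zero]))
      exact (dvd_pow_self t this).trans (he' ▸ orderOf_dvd_natCard z)
    have hr2 : r ≠ 2 := by
      refine hodd r (hord (H := G) w hr (fun h => hwk (by rw [h, one_mul, mul_one])) ?_)
      obtain ⟨e, he⟩ := H1.isPGroup_pCore r G ⟨w, hw⟩
      exact ⟨e, congrArg Subtype.val he⟩
    have hq2 : q ≠ 2 := hodd q (hord k hq (fun h => hkF (by rw [h]; exact one_mem _)) ⟨j, hj⟩)
    have hs2 : (s : ℕ) ≠ 2 := by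
      refine hodd s ((hord (H := G ⧸ F) y s.2 (fun h => huy (by rw [h, one_mul, mul_one])) ?_).trans
        (Subgroup.card_quotient_dvd_card F))
      obtain ⟨e, he⟩ := hAs ⟨y, hyA⟩
      exact ⟨e, congrArg Subtype.val he⟩
    let φ : A →* MulAut Q := MulAut.conjNormal.comp A.subtype
    have hcfg := config (K := AlgebraicClosure (ZMod r)) (n := n) hs2 hq2 (Ne.symm hqs)
      (by exact_mod_cast hne 2 Nat.prime_two (Ne.symm hr2)) (hne q hq (Ne.symm hrq)) S (hSN _ hσ) hSfix
      hAs (H1.isPGroup_pCore q (G ⧸ F)) (H28.subAut σM A hAσ) (H28.subAut σM Q hQσ)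
      (MulEquiv.ext fun z => Subtype.ext (by rw [H28.subAut_pow_coe, hσM]; rfl))
      (MulEquiv.ext fun z => Subtype.ext (by rw [H28.subAut_pow_coe, hσM]; rfl))
      (H28.fpf_subAut hfM A hAσ) (H28.fpf_subAut hfM Q hQσ) φ
      (fun a z => Subtype.ext (by
        show σM ((a : G ⧸ F) * (z : G ⧸ F) * (a : G ⧸ F)⁻¹) = σM a * σM z * (σM a)⁻¹
        rw [map_mul, map_mul, map_inv]))
      (πM.comp Q.subtype)
      (fun a z hz => by
        show πM ((a : G ⧸ F) * (z : G ⧸ F) * (a : G ⧸ F)⁻¹) = 1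
        rw [map_mul, map_mul, show πM (z : G ⧸ F) = 1 from hz, mul_one, ← map_mul, mul_inv_cancel, map_one])
      (fun z => by
        obtain ⟨b, hb⟩ := QuotientGroup.mk_surjective (z : G ⧸ F)
        show S * πM (z : G ⧸ F) = πM (σM (z : G ⧸ F)) * S
        rw [← hb, H28.quotAut_mk, hπMmk, hπMmk, hScomp])
      ⟨x, hxA⟩ ⟨u, hu⟩
    have hτcoe : (((H28.subAut σM A hAσ) ^ (2 ^ n)) ⟨x, hxA⟩ : G ⧸ F) = τM x := H28.subAut_pow_coe _ _ _ _ _
    have hcfg' : πM (τM x * u * (τM x)⁻¹) = πM (x * u * x⁻¹) := by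
      rw [← hτcoe]; exact hcfg
    apply hπk
    rw [← hπMmk, show (QuotientGroup.mk k : G ⧸ F) = c from hk, hcdef]
    rw [show τM x = x * y by rw [hy, mul_inv_cancel_left]] at hcfg'
    calc πM (y * u * y⁻¹ * u⁻¹) = πM (x⁻¹ * (x * y * u * (x * y)⁻¹) * x * u⁻¹) := by
          congr 1; group
      _ = πM x⁻¹ * πM (x * y * u * (x * y)⁻¹) * πM x * πM u⁻¹ := by simp only [map_mul, mul_assoc]
      _ = πM x⁻¹ * πM (x * u * x⁻¹) * πM x * πM u⁻¹ := by rw [hcfg']
      _ = πM (x⁻¹ * (x * u * x⁻¹) * x * u⁻¹) := by simp only [map_mul, mul_assoc]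
      _ = 1 := by rw [show x⁻¹ * (x * u * x⁻¹) * x * u⁻¹ = 1 by group, map_one]
  haveI : Group.IsSolvable ((G ⧸ F) ⧸ F₁) := inferInstance
  have htriv := H28.SG.eq_of_fix_fitting (H := (G ⧸ F) ⧸ F₁) inferInstance Nat.prime_two
    (H28.SG.not_dvd_card_of_fpf Nat.prime_two hσN hfN) (τ := σN ^ (2 ^ n))
    (by rw [← pow_mul, ← pow_succ, hσN])
    (fun z hz => by
      have hle : (⨆ t : Nat.Primes, Cfsg.pCore (t : ℕ) ((G ⧸ F) ⧸ F₁)) ≤
          MonoidHom.eqLocus (σN ^ (2 ^ n)).toMonoidHom (MonoidHom.id _) := iSup_le hcore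
      rw [H1.fittingSubgroup_eq_iSup_pCore] at hz
      exact hle hz)
    (QuotientGroup.mk (QuotientGroup.mk g : G ⧸ F))
  rw [H28.quotAut_pow_mk, H28.quotAut_pow_mk] at htriv
  exact QuotientGroup.eq.mp htriv.symm

/-- The Fitting height is at most `2 n - 2`, in residual form. -/
theorem res_eq_bot (d : ℕ) : ∀ {G : Type u} [Group G] [Finite G], Group.IsSolvable G → ∀ σ : MulAut G,
    σ ^ (2 ^ (d + 2)) = 1 → FPF σ → res (2 * d + 2) (⊤ : Subgroup G) = ⊥ := by
  induction d with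
  | zero =>
    intro G _ _ hG σ hσ hfpf
    haveI := H28.isNilpotent_commutator_of_fpf_four (Nat.card G) le_rfl hG σ (by simpa using hσ) hfpf
    obtain ⟨k, hk⟩ := (Subgroup.isNilpotent_iff_lowerCentralSeries (commutator G)).mp inferInstance
    have h1 : res 1 (⊤ : Subgroup G) ≤ commutator G := by
      refine (nres_le _ 1).trans ?_
      show (⊤ : Subgroup G).lowerCentralSeries 1 ≤ _
      rw [Subgroup.lowerCentralSeries_succ, Subgroup.lowerCentralSeries_zero, commutator_def]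
    rw [eq_bot_iff]
    exact ((nres_le _ k).trans (Subgroup.lowerCentralSeries_mono k h1)).trans hk.le
  | succ d ih =>
    intro G _ _ hG σ hσ hfpf
    haveI := hG
    set F := Cfsg.fittingSubgroup G with hF
    haveI : F.Normal := H1.fittingSubgroup_normal G
    haveI : (Cfsg.fittingSubgroup (G ⧸ F)).Normal := H1.fittingSubgroup_normal _
    haveI : (Cfsg.fittingSubgroup (G ⧸ F)).Characteristic := H1.fittingSubgroup_characteristic _
    haveI : F.Characteristic := H1.fittingSubgroup_characteristic G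
    set F₂ := (Cfsg.fittingSubgroup (G ⧸ F)).comap (QuotientGroup.mk' F) with hF₂
    haveI : F₂.Normal := Subgroup.Normal.comap inferInstance _
    have hF₂σ : ∀ x ∈ F₂, σ x ∈ F₂ := fun x hx =>
      H28.char_apply_mem (H28.quotAut σ F (H28.char_apply_mem σ F)) (Cfsg.fittingSubgroup (G ⧸ F)) _ hx
    have hd := disp_mem_fitting_two hG (n := d + 2) σ hσ hfpf
    have hq := ih (G := G ⧸ F₂) inferInstance (H28.quotAut σ F₂ hF₂σ)
      (MulEquiv.ext fun y => by
        obtain ⟨b, rfl⟩ := QuotientGroup.mk_surjective y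
        rw [H28.quotAut_pow_mk]
        exact (QuotientGroup.eq.mpr (hd b)).symm)
      (H28.fpf_quotAut hfpf F₂ hF₂σ)
    have h1 : res (2 * d + 2) (⊤ : Subgroup G) ≤ F₂ := by
      rw [← QuotientGroup.ker_mk' F₂, ← Subgroup.map_eq_bot_iff, map_res,
        Subgroup.map_top_of_surjective _ (QuotientGroup.mk'_surjective F₂), hq]
    have h2 : res (2 * d + 3) (⊤ : Subgroup G) ≤ F := by
      obtain ⟨k, hk⟩ := (Subgroup.isNilpotent_iff_lowerCentralSeries _).mp
        (H1.isNilpotent_fittingSubgroup (G ⧸ F))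
      refine ((nres_le _ k).trans (Subgroup.lowerCentralSeries_mono k h1)).trans ?_
      rw [← QuotientGroup.ker_mk' F, ← Subgroup.map_eq_bot_iff, Subgroup.map_lowerCentralSeries, hF₂,
        Subgroup.map_comap_eq_self_of_surjective (QuotientGroup.mk'_surjective F), hk]
    obtain ⟨k, hk⟩ := (Subgroup.isNilpotent_iff_lowerCentralSeries _).mp (H1.isNilpotent_fittingSubgroup G)
    rw [eq_bot_iff]
    exact ((nres_le _ k).trans (Subgroup.lowerCentralSeries_mono k h2)).trans hk.le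

end H1.Gross
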